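import Mathlib
import Groth.Prelude.Def_DRing4

set_option autoImplicit false
set_option linter.unusedSectionVars false
set_option linter.unusedVariables false
universe u
open CategoryTheory CategoryTheory.Limits MonoidalCategory CochainComplex CochainComplex.HomComplex

namespace Groth.Agent.Lib.Helper5.HomCx

section General

variable {C : Type*} [Category C] [Abelian C]

theorem acyclic_shift (N : CochainComplex C ℤ) (hN : N.Acyclic) (n : ℤ) : (N⟦n⟧).Acyclic := by
  rw [← HomotopyCategory.quotient_obj_mem_subcategoryAcyclic_iff_acyclic] at hN ⊢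
  exact ObjectProperty.prop_of_iso _
    (((HomotopyCategory.quotient C (.up ℤ)).commShiftIso n).symm.app N)
    ((HomotopyCategory.subcategoryAcyclic C).le_shift n _ hN)

/-- cocycles from a K-projective complex to an acyclic complex are coboundaries -/
theorem exists_δ_eq_of_isKProjective (P N : CochainComplex C ℤ) [P.IsKProjective] (hN : N.Acyclic)
    (n m : ℤ) (hnm : n + 1 = m) (k : ℤ) (hk : k + 1 = n) (z : Cochain P N n) (hz : δ n m z = 0) :
    ∃ y : Cochain P N k, δ k n y = z := by
  let x : Cocycle P N n := Cocycle.mk z m hnm hz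
  have h0 : CohomologyClass.toHom (CohomologyClass.mk x) = 0 := by
    rw [CohomologyClass.toHom_mk]
    have := IsKProjective.homotopyZero (Cocycle.equivHomShift.symm x) (acyclic_shift N hN n)
    rw [HomotopyCategory.eq_of_homotopy _ _ this, Functor.map_zero]
  rw [CohomologyClass.toHom_mk_eq_zero_iff, mem_coboundaries_iff x k hk] at h0
  obtain ⟨y, hy⟩ := h0
  exact ⟨y, hy⟩

end General

variable {A : Type u} [CommRing A]

/-- precomposition with a chain map as a linear map on cochains -/
noncomputable def precompLin {P P' : DRing.Cx A} (f : P ⟶ P') (l : DRing.Cx A) (i : ℤ) :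
    Cochain P' l i →ₗ[A] Cochain P l i where
  toFun z := (Cochain.ofHom f).comp z (zero_add i)
  map_add' z z' := by simp
  map_smul' a z := by simp

/-- contravariant functoriality of the Hom complex in the first variable -/
noncomputable def homCxPre {P P' : DRing.Cx A} (f : P ⟶ P') (l : DRing.Cx A) :
    DRing.homCx P' l ⟶ DRing.homCx P l where
  f i := ModuleCat.ofHom (precompLin f l i)
  comm' i j _ := by
    ext z
    change δ i j ((Cochain.ofHom f).comp z (zero_add i)) =
      (Cochain.ofHom f).comp (δ i j z) (zero_add j)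
    exact δ_ofHom_comp f z j

@[simp] theorem homCxPre_f_apply {P P' : DRing.Cx A} (f : P ⟶ P') (l : DRing.Cx A) (i : ℤ)
    (z : Cochain P' l i) :
    ((homCxPre f l).f i).hom z = (Cochain.ofHom f).comp z (zero_add i) := rfl

theorem homCxPre_id (P l : DRing.Cx A) : homCxPre (𝟙 P) l = 𝟙 _ := by
  refine HomologicalComplex.hom_ext _ _ fun i =>
    ModuleCat.hom_ext (LinearMap.ext fun (z : Cochain P l i) => ?_)
  exact Cochain.id_comp z

theorem homCxPre_comp {P P' P'' : DRing.Cx A} (f : P ⟶ P') (g : P' ⟶ P'') (l : DRing.Cx A) :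
    homCxPre (f ≫ g) l = homCxPre g l ≫ homCxPre f l := by
  refine HomologicalComplex.hom_ext _ _ fun i =>
    ModuleCat.hom_ext (LinearMap.ext fun (z : Cochain P'' l i) => ?_)
  change (Cochain.ofHom (f ≫ g)).comp z (zero_add i) =
    (Cochain.ofHom f).comp ((Cochain.ofHom g).comp z (zero_add i)) (zero_add i)
  rw [Cochain.ofHom_comp]
  exact Cochain.comp_assoc_of_first_is_zero_cochain _ _ _ _

/-- the Hom complex from a K-projective complex to an acyclic complex is acyclic -/
theorem acyclic_homCx (P N : DRing.Cx A) [P.IsKProjective] (hN : N.Acyclic) :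
    (DRing.homCx P N).Acyclic := by
  intro n
  rw [HomologicalComplex.exactAt_iff' _ (n - 1) n (n + 1) (by simp) (by simp),
    ShortComplex.moduleCat_exact_iff]
  intro (z : Cochain P N n) hz
  obtain ⟨y, hy⟩ := exists_δ_eq_of_isKProjective P N hN n (n + 1) rfl (n - 1) (by omega) z hz
  exact ⟨y, hy⟩

end Groth.Agent.Lib.Helper5.HomCx
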