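import Mathlib
import Groth.Prelude.Def_DRing4
import Groth.Agent.Lib.Helper5.HomCx.Basic
import Groth.Agent.Lib.Helper5.Misc.ProjTot

set_option autoImplicit false
set_option linter.unusedSectionVars false
set_option linter.unusedVariables false
universe u
open CategoryTheory CategoryTheory.Limits MonoidalCategory CochainComplex CochainComplex.HomComplex

namespace Groth.Agent.Lib.Helper5.HomCx

variable {A : Type u} [CommRing A]

/-- evaluation of a cochain at a pair of indices, as a linear map -/
noncomputable def evalLin (P l : DRing.Cx A) (m q s : ℤ) (h : q + m = s) :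
    Cochain P l m →ₗ[A] (P.X q →ₗ[A] l.X s) where
  toFun c := (c.v q s h).hom
  map_add' c c' := by simp
  map_smul' a c := by simp

@[simp] theorem evalLin_apply (P l : DRing.Cx A) (m q s : ℤ) (h : q + m = s) (c : Cochain P l m) :
    evalLin P l m q s h c = (c.v q s h).hom := rfl

/-- a linear family of cochains from linear families of components -/
noncomputable def mkLin {T : Type u} [AddCommGroup T] [Module A T] (P l : DRing.Cx A) (m : ℤ)
    (f : ∀ (q s : ℤ) (_ : q + m = s), T →ₗ[A] (P.X q →ₗ[A] l.X s)) : T →ₗ[A] Cochain P l m where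
  toFun t := Cochain.mk (fun q s h => ModuleCat.ofHom (f q s h t))
  map_add' t t' := by
    ext q s h
    simp
  map_smul' a t := by
    ext q s h
    simp

@[simp] theorem mkLin_apply_v {T : Type u} [AddCommGroup T] [Module A T] (P l : DRing.Cx A) (m : ℤ)
    (f : ∀ (q s : ℤ) (_ : q + m = s), T →ₗ[A] (P.X q →ₗ[A] l.X s)) (t : T) (q s : ℤ)
    (h : q + m = s) : ((mkLin P l m f t).v q s h).hom = f q s h t := rfl


variable (w P l : DRing.Cx A)

/-- the bilinear components of a cochain with values in a Hom complex -/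
noncomputable def bil {n : ℤ} (z : Cochain w (DRing.homCx P l) n) (p q s : ℤ)
    (h : p + q + n = s) : w.X p →ₗ[A] P.X q →ₗ[A] l.X s :=
  (evalLin P l (p + n) q s (by omega)).comp (z.v p (p + n) rfl).hom

theorem bil_apply {n : ℤ} (z : Cochain w (DRing.homCx P l) n) (p q s : ℤ)
    (h : p + q + n = s) (x : w.X p) (y : P.X q) :
    bil w P l z p q s h x y =
      (((z.v p (p + n) rfl).hom x : Cochain P l (p + n)).v q s (by omega)).hom y := rfl

/-- uncurrying of cochains -/
noncomputable def unc {n : ℤ} (z : Cochain w (DRing.homCx P l) n) : Cochain (w ⊗ P) l n :=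
  Cochain.mk (fun r s hrs => HomologicalComplex.mapBifunctorDesc (fun p q hpq =>
    ModuleCat.ofHom (TensorProduct.lift (bil w P l z p q s (by
      have : p + q = r := hpq
      omega)))))

theorem ι_unc {n : ℤ} (z : Cochain w (DRing.homCx P l) n) (p q r s : ℤ) (hpq : p + q = r)
    (hrs : r + n = s) :
    HomologicalComplex.ιTensorObj w P p q r hpq ≫ (unc w P l z).v r s hrs =
      ModuleCat.ofHom (TensorProduct.lift (bil w P l z p q s (by omega))) := by
  dsimp [unc]
  exact HomologicalComplex.ι_mapBifunctorDesc _ _ _ _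


/-- currying of cochains -/
noncomputable def cur {n : ℤ} (c : Cochain (w ⊗ P) l n) : Cochain w (DRing.homCx P l) n :=
  Cochain.mk (fun p m hpm => ModuleCat.ofHom (mkLin P l m (fun q s hqs =>
    TensorProduct.curry
      (HomologicalComplex.ιTensorObj w P p q (p + q) rfl ≫ c.v (p + q) s (by omega)).hom)))

theorem cur_v_apply_v {n : ℤ} (c : Cochain (w ⊗ P) l n) (p m : ℤ) (hpm : p + n = m) (x : w.X p)
    (q s : ℤ) (hqs : q + m = s) (y : P.X q) :
    ((((cur w P l c).v p m hpm).hom x : Cochain P l m).v q s hqs).hom y =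
      (HomologicalComplex.ιTensorObj w P p q (p + q) rfl ≫ c.v (p + q) s (by omega)).hom
        (x ⊗ₜ[A] y) := rfl

theorem unc_cur {n : ℤ} (c : Cochain (w ⊗ P) l n) : unc w P l (cur w P l c) = c := by
  refine Cochain.ext _ _ (fun r s hrs => ?_)
  apply HomologicalComplex.mapBifunctor.hom_ext
  intro p q hpq
  have hpq' : p + q = r := hpq
  subst hpq'
  refine (ι_unc w P l (cur w P l c) p q (p + q) s rfl hrs).trans ?_
  apply ModuleCat.hom_ext
  apply TensorProduct.ext'
  intro x y
  rfl

theorem cur_unc {n : ℤ} (z : Cochain w (DRing.homCx P l) n) : cur w P l (unc w P l z) = z := by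
  refine Cochain.ext _ _ (fun p m hpm => ?_)
  subst hpm
  apply ModuleCat.hom_ext
  apply LinearMap.ext
  intro x
  refine Cochain.ext _ _ (fun q s hqs => ?_)
  apply ModuleCat.hom_ext
  apply LinearMap.ext
  intro y
  refine (cur_v_apply_v w P l (unc w P l z) p (p + n) rfl x q s hqs y).trans ?_
  rw [ι_unc w P l z p q (p + q) s rfl (by omega)]
  rfl


theorem bil_add {n : ℤ} (z z' : Cochain w (DRing.homCx P l) n) (p q s : ℤ) (h : p + q + n = s) :
    bil w P l (z + z') p q s h = bil w P l z p q s h + bil w P l z' p q s h := by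
  ext x y
  rw [LinearMap.add_apply, LinearMap.add_apply, bil_apply, bil_apply, bil_apply, Cochain.add_v,
    ModuleCat.hom_add, LinearMap.add_apply]
  erw [Cochain.add_v]
  rw [ModuleCat.hom_add, LinearMap.add_apply]

theorem bil_smul {n : ℤ} (a : A) (z : Cochain w (DRing.homCx P l) n) (p q s : ℤ)
    (h : p + q + n = s) :
    bil w P l (a • z) p q s h = a • bil w P l z p q s h := by
  ext x y
  rw [LinearMap.smul_apply, LinearMap.smul_apply, bil_apply, bil_apply, Cochain.smul_v,
    ModuleCat.hom_smul, LinearMap.smul_apply]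
  erw [Cochain.smul_v]
  rw [ModuleCat.hom_smul, LinearMap.smul_apply]


theorem unc_add {n : ℤ} (z z' : Cochain w (DRing.homCx P l) n) :
    unc w P l (z + z') = unc w P l z + unc w P l z' := by
  refine Cochain.ext _ _ (fun r s hrs => ?_)
  apply HomologicalComplex.mapBifunctor.hom_ext
  intro p q hpq
  have hpq' : p + q = r := hpq
  subst hpq'
  rw [Cochain.add_v, Preadditive.comp_add]
  refine (ι_unc w P l (z + z') p q (p + q) s rfl hrs).trans ?_
  refine Eq.trans ?_ (congrArg₂ (· + ·) (ι_unc w P l z p q (p + q) s rfl hrs).symm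
    (ι_unc w P l z' p q (p + q) s rfl hrs).symm)
  rw [bil_add]
  apply ModuleCat.hom_ext
  apply TensorProduct.ext'
  intro x y
  rfl

theorem unc_smul {n : ℤ} (a : A) (z : Cochain w (DRing.homCx P l) n) :
    unc w P l (a • z) = a • unc w P l z := by
  refine Cochain.ext _ _ (fun r s hrs => ?_)
  apply HomologicalComplex.mapBifunctor.hom_ext
  intro p q hpq
  have hpq' : p + q = r := hpq
  subst hpq'
  rw [Cochain.smul_v, Linear.comp_smul]
  refine (ι_unc w P l (a • z) p q (p + q) s rfl hrs).trans ?_
  refine Eq.trans ?_ (congrArg (a • ·) (ι_unc w P l z p q (p + q) s rfl hrs).symm)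
  rw [bil_smul]
  apply ModuleCat.hom_ext
  apply TensorProduct.ext'
  intro x y
  rfl


theorem ι_d (w P : DRing.Cx A) (p q r : ℤ) (hpq : p + q = r) :
    HomologicalComplex.ιTensorObj w P p q r hpq ≫ (w ⊗ P).d r (r + 1) =
      (w.d p (p + 1) ▷ P.X q) ≫
        HomologicalComplex.ιTensorObj w P (p + 1) q (r + 1) (by omega) +
      p.negOnePow • ((w.X p ◁ P.d q (q + 1)) ≫
        HomologicalComplex.ιTensorObj w P p (q + 1) (r + 1) (by omega)) := by
  have := Groth.Agent.Lib.Helper5.Misc.ProjTot.ι_d_raw (curriedTensor (ModuleCat.{u} A)) w P p q r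
    hpq (by omega) (by omega)
  refine this.trans ?_
  congr 1
  exact one_smul _ _


theorem bil_apply' {n : ℤ} (z : Cochain w (DRing.homCx P l) n) (p q s : ℤ)
    (h : p + q + n = s) (m : ℤ) (hm : p + n = m) (x : w.X p) (y : P.X q) :
    bil w P l z p q s h x y =
      (((z.v p m hm).hom x : Cochain P l m).v q s (by omega)).hom y := by
  subst hm
  rfl

theorem bil_δ {n : ℤ} (z : Cochain w (DRing.homCx P l) n) (p q s : ℤ)
    (h : p + q + (n + 1) = s) (x : w.X p) (y : P.X q) :
    bil w P l (δ n (n + 1) z) p q s h x y =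
      (l.d (s - 1) s).hom (bil w P l z p q (s - 1) (by omega) x y) +
      ((p + (n + 1)).negOnePow : ℤ) •
        bil w P l z p (q + 1) s (by omega) x ((P.d q (q + 1)).hom y) +
      ((n + 1).negOnePow : ℤ) •
        bil w P l z (p + 1) q s (by omega) ((w.d p (p + 1)).hom x) y := by
  rw [bil_apply, δ_v n (n + 1) rfl z p (p + (n + 1)) rfl (p + n) (p + 1) (by omega) rfl]
  rw [ModuleCat.hom_add, LinearMap.add_apply]
  have e1 : (z.v p (p + n) rfl ≫ (DRing.homCx P l).d (p + n) (p + (n + 1))).hom x =
      δ (p + n) (p + (n + 1)) ((z.v p (p + n) rfl).hom x : Cochain P l (p + n)) := rfl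
  have e2 : ((n + 1).negOnePow • w.d p (p + 1) ≫ z.v (p + 1) (p + (n + 1)) (by omega)).hom x =
      ((n + 1).negOnePow : ℤ) •
        ((z.v (p + 1) (p + (n + 1)) (by omega)).hom ((w.d p (p + 1)).hom x) :
          Cochain P l (p + (n + 1))) := by
    rw [Units.smul_def, ModuleCat.hom_zsmul]
    rfl
  rw [e1, e2]
  erw [Cochain.add_v]
  rw [ModuleCat.hom_add, LinearMap.add_apply,
    δ_v (p + n) (p + (n + 1)) (by omega) _ q s (by omega) (s - 1) (q + 1) rfl rfl]
  refine congrArg₂ (· + ·) ?_ ?_
  · rw [ModuleCat.hom_add, LinearMap.add_apply, Units.smul_def, ModuleCat.hom_zsmul]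
    rfl
  · rw [bil_apply' w P l z (p + 1) q s (by omega) (p + (n + 1)) (by omega)]
    rfl


theorem unc_zero {n : ℤ} : unc w P l (0 : Cochain w (DRing.homCx P l) n) = 0 := by
  have := unc_smul w P l (0 : A) (0 : Cochain w (DRing.homCx P l) n)
  rwa [zero_smul, zero_smul] at this

theorem unc_δ {n m : ℤ} (z : Cochain w (DRing.homCx P l) n) :
    unc w P l (δ n m z) = δ n m (unc w P l z) := by
  by_cases hnm : n + 1 = m
  · subst hnm
    refine Cochain.ext _ _ (fun r s hrs => ?_)
    apply HomologicalComplex.mapBifunctor.hom_ext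
    intro p q hpq
    have hpq' : p + q = r := hpq
    subst hpq'
    refine (ι_unc w P l _ p q (p + q) s rfl hrs).trans ?_
    rw [δ_v n (n + 1) rfl (unc w P l z) (p + q) s hrs (s - 1) (p + q + 1) rfl rfl]
    rw [Preadditive.comp_add, Linear.comp_units_smul]
    have t1 : HomologicalComplex.ιMapBifunctor w P (curriedTensor (ModuleCat.{u} A))
        (ComplexShape.up ℤ) p q (p + q) hpq ≫
        (unc w P l z).v (p + q) (s - 1) (by omega) ≫ l.d (s - 1) s =
        ModuleCat.ofHom (TensorProduct.lift (bil w P l z p q (s - 1) (by omega))) ≫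
          l.d (s - 1) s := by
      rw [← Category.assoc]
      congr 1
      exact ι_unc w P l z p q (p + q) (s - 1) rfl (by omega)
    have t2 : HomologicalComplex.ιMapBifunctor w P (curriedTensor (ModuleCat.{u} A))
        (ComplexShape.up ℤ) p q (p + q) hpq ≫
        (w ⊗ P).d (p + q) (p + q + 1) ≫ (unc w P l z).v (p + q + 1) s (by omega) =
        (w.d p (p + 1) ▷ P.X q) ≫
          ModuleCat.ofHom (TensorProduct.lift (bil w P l z (p + 1) q s (by omega))) +
        p.negOnePow • ((w.X p ◁ P.d q (q + 1)) ≫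
          ModuleCat.ofHom (TensorProduct.lift (bil w P l z p (q + 1) s (by omega)))) := by
      rw [← Category.assoc]
      refine (congrArg (· ≫ (unc w P l z).v (p + q + 1) s (by omega))
        (ι_d w P p q (p + q) rfl)).trans ?_
      rw [Preadditive.add_comp, Linear.units_smul_comp, Category.assoc, Category.assoc,
        ι_unc w P l z (p + 1) q (p + q + 1) s (by omega) (by omega),
        ι_unc w P l z p (q + 1) (p + q + 1) s (by omega) (by omega)]
    rw [t1, t2]
    apply ModuleCat.hom_ext
    apply TensorProduct.ext'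
    intro x y
    refine (bil_δ w P l z p q s hrs x y).trans ?_
    rw [ModuleCat.hom_add, LinearMap.add_apply, Units.smul_def, ModuleCat.hom_zsmul,
      LinearMap.smul_apply, ModuleCat.hom_add, LinearMap.add_apply, Units.smul_def,
      ModuleCat.hom_zsmul, LinearMap.smul_apply, smul_add, smul_smul, Int.negOnePow_add,
      Units.val_mul, add_assoc, mul_comm]
    congr 1
    rw [add_comm]
    rfl
  · rw [δ_shape _ _ hnm, δ_shape _ _ hnm, unc_zero]


theorem cur_δ {n m : ℤ} (c : Cochain (w ⊗ P) l n) :
    cur w P l (δ n m c) = δ n m (cur w P l c) := by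
  have h : unc w P l (cur w P l (δ n m c)) = unc w P l (δ n m (cur w P l c)) := by
    rw [unc_cur, unc_δ, unc_cur]
  have := congrArg (cur w P l) h
  rwa [cur_unc, cur_unc] at this

/-- uncurrying as a linear equivalence in each degree -/
noncomputable def uncLinEquiv (n : ℤ) :
    Cochain w (DRing.homCx P l) n ≃ₗ[A] Cochain (w ⊗ P) l n where
  toFun := unc w P l
  invFun := cur w P l
  left_inv := cur_unc w P l
  right_inv := unc_cur w P l
  map_add' := unc_add w P l
  map_smul' := unc_smul w P l

/-- the currying isomorphism of Hom complexes `Hom(w, Hom(P, l)) ≅ Hom(w ⊗ P, l)` -/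
noncomputable def curryIso : DRing.homCx w (DRing.homCx P l) ≅ DRing.homCx (w ⊗ P) l :=
  HomologicalComplex.Hom.isoOfComponents (fun n => (uncLinEquiv w P l n).toModuleIso) (by
    intro i j hij
    ext z
    exact (unc_δ w P l z).symm)

end Groth.Agent.Lib.Helper5.HomCx
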