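import Mathlib
import Groth.Agent.Lib.Helper5.HomCx.Curry

set_option autoImplicit false
set_option linter.unusedSectionVars false
set_option linter.unusedVariables false
universe u
open CategoryTheory CategoryTheory.Limits MonoidalCategory CochainComplex CochainComplex.HomComplex

namespace Groth.Agent.Lib.Helper5.HomCx

variable {A : Type u} [CommRing A]

section
variable (w P l : DRing.Cx A)

theorem cur_zero {n : ℤ} : cur w P l (0 : Cochain (w ⊗ P) l n) = 0 := by
  have := cur_unc w P l (0 : Cochain w (DRing.homCx P l) n)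
  rwa [unc_zero] at this

theorem cur_add {n : ℤ} (c c' : Cochain (w ⊗ P) l n) :
    cur w P l (c + c') = cur w P l c + cur w P l c' :=
  map_add (uncLinEquiv w P l n).symm c c'

end

variable {w P l : DRing.Cx A}

/-- uncurrying of chain maps -/
noncomputable def uncurry (g : w ⟶ DRing.homCx P l) : w ⊗ P ⟶ l :=
  Cocycle.homOf (Cocycle.mk (unc w P l (Cochain.ofHom g)) 1 (zero_add 1)
    (by rw [← unc_δ, δ_ofHom, unc_zero]))

theorem ofHom_uncurry (g : w ⟶ DRing.homCx P l) :
    Cochain.ofHom (uncurry g) = unc w P l (Cochain.ofHom g) :=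
  Cocycle.cochain_ofHom_homOf_eq_coe _

/-- currying of chain maps -/
noncomputable def curry (h : w ⊗ P ⟶ l) : w ⟶ DRing.homCx P l :=
  Cocycle.homOf (Cocycle.mk (cur w P l (Cochain.ofHom h)) 1 (zero_add 1)
    (by rw [← cur_δ, δ_ofHom, cur_zero]))

theorem ofHom_curry (h : w ⊗ P ⟶ l) :
    Cochain.ofHom (curry h) = cur w P l (Cochain.ofHom h) :=
  Cocycle.cochain_ofHom_homOf_eq_coe _

theorem uncurry_curry (h : w ⊗ P ⟶ l) : uncurry (curry h) = h :=
  Cochain.ofHom_injective (by rw [ofHom_uncurry, ofHom_curry, unc_cur])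

theorem curry_uncurry (g : w ⟶ DRing.homCx P l) : curry (uncurry g) = g :=
  Cochain.ofHom_injective (by rw [ofHom_curry, ofHom_uncurry, cur_unc])

/-- uncurrying of homotopies -/
noncomputable def uncurryHomotopy {g g' : w ⟶ DRing.homCx P l} (H : Homotopy g g') :
    Homotopy (uncurry g) (uncurry g') :=
  (Cochain.equivHomotopy _ _).symm ⟨unc w P l (Cochain.equivHomotopy _ _ H).1, by
    rw [ofHom_uncurry, ofHom_uncurry, ← unc_δ, ← unc_add, ← (Cochain.equivHomotopy _ _ H).2]⟩

/-- currying of homotopies -/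
noncomputable def curryHomotopy {h h' : w ⊗ P ⟶ l} (H : Homotopy h h') :
    Homotopy (curry h) (curry h') :=
  (Cochain.equivHomotopy _ _).symm ⟨cur w P l (Cochain.equivHomotopy _ _ H).1, by
    rw [ofHom_curry, ofHom_curry, ← cur_δ, ← cur_add, ← (Cochain.equivHomotopy _ _ H).2]⟩

theorem ι_uncurry (g : w ⟶ DRing.homCx P l) (p q r : ℤ) (h : p + q = r) :
    HomologicalComplex.ιTensorObj w P p q r h ≫ (uncurry g).f r =
      ModuleCat.ofHom (TensorProduct.lift (bil w P l (Cochain.ofHom g) p q r (by omega))) := by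
  rw [← Cochain.ofHom_v, ofHom_uncurry]
  exact ι_unc w P l (Cochain.ofHom g) p q r r h (add_zero r)

theorem bil_ofHom (g : w ⟶ DRing.homCx P l) (p q r : ℤ) (h : p + q + 0 = r) (x : w.X p)
    (y : P.X q) :
    bil w P l (Cochain.ofHom g) p q r h x y =
      (((g.f p).hom x : Cochain P l p).v q r (by omega)).hom y := by
  rw [bil_apply' w P l (Cochain.ofHom g) p q r h p (add_zero p), Cochain.ofHom_v]

theorem ι_uncurry_apply (g : w ⟶ DRing.homCx P l) (p q r : ℤ) (h : p + q = r) (x : w.X p)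
    (y : P.X q) :
    (HomologicalComplex.ιTensorObj w P p q r h ≫ (uncurry g).f r).hom (x ⊗ₜ[A] y) =
      (((g.f p).hom x : Cochain P l p).v q r (by omega)).hom y := by
  rw [ι_uncurry]
  exact bil_ofHom g p q r (by omega) x y


theorem ι_whiskerRight {w w' : DRing.Cx A} (f : w' ⟶ w) (P : DRing.Cx A) (p q r : ℤ)
    (h : p + q = r) :
    HomologicalComplex.ιTensorObj w' P p q r h ≫ (f ▷ P).f r =
      (f.f p ▷ P.X q) ≫ HomologicalComplex.ιTensorObj w P p q r h := by
  refine (HomologicalComplex.ι_mapBifunctorMap f (𝟙 P) (curriedTensor (ModuleCat.{u} A))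
    (ComplexShape.up ℤ) p q r h).trans ?_
  dsimp
  simp

theorem ι_whiskerLeft (w : DRing.Cx A) {P P' : DRing.Cx A} (φ : P ⟶ P') (p q r : ℤ)
    (h : p + q = r) :
    HomologicalComplex.ιTensorObj w P p q r h ≫ (w ◁ φ).f r =
      (w.X p ◁ φ.f q) ≫ HomologicalComplex.ιTensorObj w P' p q r h := by
  refine (HomologicalComplex.ι_mapBifunctorMap (𝟙 w) φ (curriedTensor (ModuleCat.{u} A))
    (ComplexShape.up ℤ) p q r h).trans ?_
  dsimp
  simp

theorem tensor_hom_ext {w P l : DRing.Cx A} {f g : w ⊗ P ⟶ l}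
    (h : ∀ (p q r : ℤ) (hpq : p + q = r) (x : w.X p) (y : P.X q),
      (HomologicalComplex.ιTensorObj w P p q r hpq ≫ f.f r).hom (x ⊗ₜ[A] y) =
      (HomologicalComplex.ιTensorObj w P p q r hpq ≫ g.f r).hom (x ⊗ₜ[A] y)) : f = g := by
  refine HomologicalComplex.hom_ext _ _ (fun r => ?_)
  apply HomologicalComplex.mapBifunctor.hom_ext
  intro p q hpq
  apply ModuleCat.hom_ext
  apply TensorProduct.ext'
  intro x y
  exact h p q r hpq x y

/-- naturality of uncurrying in the first variable -/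
theorem uncurry_comp {w' : DRing.Cx A} (f : w' ⟶ w) (g : w ⟶ DRing.homCx P l) :
    uncurry (f ≫ g) = (f ▷ P) ≫ uncurry g := by
  refine tensor_hom_ext (fun p q r hpq x y => ?_)
  refine (ι_uncurry_apply (f ≫ g) p q r hpq x y).trans ?_
  have e : HomologicalComplex.ιTensorObj w' P p q r hpq ≫ (f ▷ P ≫ uncurry g).f r =
      (f.f p ▷ P.X q) ≫ HomologicalComplex.ιTensorObj w P p q r hpq ≫ (uncurry g).f r := by
    rw [HomologicalComplex.comp_f, ← Category.assoc, ι_whiskerRight, Category.assoc]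
  rw [e, ModuleCat.hom_comp, LinearMap.comp_apply]
  erw [ModuleCat.MonoidalCategory.whiskerRight_apply]
  rw [ι_uncurry_apply]
  rfl

/-- naturality of uncurrying in the second variable -/
theorem uncurry_comp_homCxPre {P' : DRing.Cx A} (g : w ⟶ DRing.homCx P' l) (φ : P ⟶ P') :
    uncurry (g ≫ homCxPre φ l) = (w ◁ φ) ≫ uncurry g := by
  refine tensor_hom_ext (fun p q r hpq x y => ?_)
  refine (ι_uncurry_apply (g ≫ homCxPre φ l) p q r hpq x y).trans ?_
  have e : HomologicalComplex.ιTensorObj w P p q r hpq ≫ (w ◁ φ ≫ uncurry g).f r =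
      (w.X p ◁ φ.f q) ≫ HomologicalComplex.ιTensorObj w P' p q r hpq ≫ (uncurry g).f r := by
    rw [HomologicalComplex.comp_f, ← Category.assoc, ι_whiskerLeft, Category.assoc]
  rw [e, ModuleCat.hom_comp, LinearMap.comp_apply]
  erw [ModuleCat.MonoidalCategory.whiskerLeft_apply]
  rw [ι_uncurry_apply]
  change (((Cochain.ofHom φ).comp ((g.f p).hom x : Cochain P' l p) (zero_add p)).v q r
    (by omega)).hom y = _
  rw [Cochain.zero_cochain_comp_v, Cochain.ofHom_v]
  rfl

variable (P l) in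
/-- the evaluation map of Hom complexes -/
noncomputable def ev : DRing.homCx P l ⊗ P ⟶ l := uncurry (𝟙 _)

theorem uncurry_eq (g : w ⟶ DRing.homCx P l) : uncurry g = (g ▷ P) ≫ ev P l := by
  have := uncurry_comp g (𝟙 (DRing.homCx P l))
  rwa [Category.comp_id] at this

/-- dinaturality of the evaluation map -/
theorem ev_dinat {P' : DRing.Cx A} (φ : P ⟶ P') (l : DRing.Cx A) :
    (homCxPre φ l ▷ P) ≫ ev P l = (DRing.homCx P' l ◁ φ) ≫ ev P' l := by
  rw [← uncurry_eq]
  have := uncurry_comp_homCxPre (𝟙 (DRing.homCx P' l)) φ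
  rwa [Category.id_comp] at this

end Groth.Agent.Lib.Helper5.HomCx
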