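import Mathlib
import Groth.Agent.Lib.Helper5.HomCx.Uncurry

set_option autoImplicit false
set_option linter.unusedSectionVars false
set_option linter.unusedVariables false
universe u
open CategoryTheory CategoryTheory.Limits MonoidalCategory CochainComplex CochainComplex.HomComplex

namespace Groth.Agent.Lib.Helper5.HomCx

variable {A : Type u} [CommRing A]

/-- naturality of currying of cochains in the target -/
theorem cur_comp_ofHom (w P : DRing.Cx A) {l l' : DRing.Cx A} (g : l ⟶ l') {n : ℤ}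
    (c : Cochain (w ⊗ P) l n) :
    cur w P l' (c.comp (Cochain.ofHom g) (add_zero n)) =
      (cur w P l c).comp (Cochain.ofHom (DRing.homCxMap P g)) (add_zero n) := by
  refine Cochain.ext _ _ (fun p m hpm => ?_)
  apply ModuleCat.hom_ext
  apply LinearMap.ext
  intro x
  refine Cochain.ext _ _ (fun q s hqs => ?_)
  apply ModuleCat.hom_ext
  apply LinearMap.ext
  intro y
  refine (cur_v_apply_v w P l' _ p m hpm x q s hqs y).trans ?_
  rw [Cochain.comp_zero_cochain_v, Cochain.ofHom_v, Cochain.comp_zero_cochain_v, Cochain.ofHom_v]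
  change (g.f s).hom ((HomologicalComplex.ιTensorObj w P p q (p + q) rfl ≫
    c.v (p + q) s (by omega)).hom (x ⊗ₜ[A] y)) = _
  rw [← cur_v_apply_v w P l c p m hpm x q s hqs y]
  symm
  change (((((cur w P l c).v p m hpm).hom x : Cochain P l m).comp (Cochain.ofHom g)
    (add_zero m)).v q s hqs).hom y = _
  rw [Cochain.comp_zero_cochain_v, Cochain.ofHom_v]
  rfl

/-- naturality of uncurrying of cochains in the target -/
theorem unc_comp_ofHom (w P : DRing.Cx A) {l l' : DRing.Cx A} (g : l ⟶ l') {n : ℤ}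
    (z : Cochain w (DRing.homCx P l) n) :
    unc w P l' (z.comp (Cochain.ofHom (DRing.homCxMap P g)) (add_zero n)) =
      (unc w P l z).comp (Cochain.ofHom g) (add_zero n) := by
  have h := cur_comp_ofHom w P g (unc w P l z)
  rw [cur_unc] at h
  rw [← h, unc_cur]

theorem curry_comp_homCxMap {w P l l' : DRing.Cx A} (h : w ⊗ P ⟶ l) (g : l ⟶ l') :
    curry (h ≫ g) = curry h ≫ DRing.homCxMap P g := by
  apply Cochain.ofHom_injective
  rw [ofHom_curry, Cochain.ofHom_comp, Cochain.ofHom_comp, cur_comp_ofHom, ofHom_curry]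

theorem curry_comp_left {w w' P l : DRing.Cx A} (f : w' ⟶ w) (h : w ⊗ P ⟶ l) :
    curry ((f ▷ P) ≫ h) = f ≫ curry h := by
  have := uncurry_comp f (curry h)
  rw [uncurry_curry] at this
  rw [← this, curry_uncurry]

theorem cone_hom_ext {K K' Z : DRing.Cx A} (φ : K ⟶ K') {f g : mappingCone φ ⟶ Z}
    (h1 : (mappingCone.inl φ).comp (Cochain.ofHom f) (add_zero (-1)) =
      (mappingCone.inl φ).comp (Cochain.ofHom g) (add_zero (-1)))
    (h2 : mappingCone.inr φ ≫ f = mappingCone.inr φ ≫ g) : f = g := by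
  apply Cochain.ofHom_injective
  rw [mappingCone.ext_cochain_from_iff φ (-1) 0 (by omega)]
  refine ⟨h1, ?_⟩
  rw [← Cochain.ofHom_comp, ← Cochain.ofHom_comp, h2]

section

variable {K K' : DRing.Cx A} (φ : K ⟶ K') (L : DRing.Cx A)

/-- coevaluation -/
noncomputable def coev (X L : DRing.Cx A) : X ⟶ DRing.homCx L (X ⊗ L) := curry (𝟙 _)

theorem uncurry_coev (X L : DRing.Cx A) : uncurry (coev X L) = 𝟙 _ := uncurry_curry _

theorem curry_whiskerRight {X Y : DRing.Cx A} (f : X ⟶ Y) (L : DRing.Cx A) :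
    curry (f ▷ L) = f ≫ coev Y L := by
  have := curry_comp_left f (𝟙 (Y ⊗ L))
  rwa [Category.comp_id] at this

theorem coev_comp_homCxMap {X L Z : DRing.Cx A} (h : X ⊗ L ⟶ Z) :
    coev X L ≫ DRing.homCxMap L h = curry h := by
  rw [coev, ← curry_comp_homCxMap, Category.id_comp]

/-- the cochain of degree `-1` defining `Ψ` -/
noncomputable def αΨ : Cochain (K ⊗ L) (mappingCone φ ⊗ L) (-1) :=
  unc K L _ ((mappingCone.inl φ).comp (Cochain.ofHom (coev (mappingCone φ) L)) (add_zero (-1)))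

theorem δ_αΨ : δ (-1) 0 (αΨ φ L) = Cochain.ofHom ((φ ▷ L) ≫ (mappingCone.inr φ ▷ L)) := by
  rw [αΨ, ← unc_δ, δ_comp_ofHom, mappingCone.δ_inl, ← Cochain.ofHom_comp, ← ofHom_uncurry,
    Category.assoc, uncurry_comp, uncurry_comp, uncurry_coev, Category.comp_id]

/-- the comparison map `Cone(φ ⊗ L) ⟶ Cone(φ) ⊗ L` -/
noncomputable def Ψ : mappingCone (φ ▷ L) ⟶ mappingCone φ ⊗ L :=
  mappingCone.desc (φ ▷ L) (αΨ φ L) (mappingCone.inr φ ▷ L) (δ_αΨ φ L)

/-- the cochain of degree `-1` defining `Φ` -/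
noncomputable def αΦ : Cochain K (DRing.homCx L (mappingCone (φ ▷ L))) (-1) :=
  cur K L _ (mappingCone.inl (φ ▷ L))

theorem δ_αΦ : δ (-1) 0 (αΦ φ L) =
    Cochain.ofHom (φ ≫ curry (mappingCone.inr (φ ▷ L))) := by
  rw [αΦ, ← cur_δ, mappingCone.δ_inl, ← ofHom_curry, curry_comp_left]

/-- the curried form of `Φ` -/
noncomputable def Φc : mappingCone φ ⟶ DRing.homCx L (mappingCone (φ ▷ L)) :=
  mappingCone.desc φ (αΦ φ L) (curry (mappingCone.inr (φ ▷ L))) (δ_αΦ φ L)

/-- the comparison map `Cone(φ) ⊗ L ⟶ Cone(φ ⊗ L)` -/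
noncomputable def Φ : mappingCone φ ⊗ L ⟶ mappingCone (φ ▷ L) := uncurry (Φc φ L)

theorem Φ_Ψ : Φ φ L ≫ Ψ φ L = 𝟙 _ := by
  have h : curry (Φ φ L ≫ Ψ φ L) = curry (𝟙 _) := by
    rw [curry_comp_homCxMap, Φ, curry_uncurry]
    refine cone_hom_ext φ ?_ ?_
    · rw [Cochain.ofHom_comp, ← Cochain.comp_assoc_of_third_is_zero_cochain, Φc,
        mappingCone.inl_desc, αΦ, ← cur_comp_ofHom, Ψ, mappingCone.inl_desc, αΨ, cur_unc]
      rfl
    · rw [← Category.assoc, Φc, mappingCone.inr_desc, ← curry_comp_homCxMap, Ψ,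
        mappingCone.inr_desc, curry_whiskerRight]
      rfl
  have h2 := congrArg uncurry h
  rwa [uncurry_curry, uncurry_curry] at h2

theorem Ψ_Φ : Ψ φ L ≫ Φ φ L = 𝟙 _ := by
  refine cone_hom_ext (φ ▷ L) ?_ ?_
  · rw [Cochain.ofHom_comp, ← Cochain.comp_assoc_of_third_is_zero_cochain, Ψ,
      mappingCone.inl_desc, αΨ, ← unc_comp_ofHom, Cochain.comp_assoc_of_third_is_zero_cochain,
      ← Cochain.ofHom_comp, coev_comp_homCxMap, Φ, curry_uncurry, Φc, mappingCone.inl_desc, αΦ,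
      unc_cur]
    exact (Cochain.comp_id _).symm
  · rw [← Category.assoc, Ψ, mappingCone.inr_desc, Φ, ← uncurry_comp, Φc, mappingCone.inr_desc,
      uncurry_curry, Category.comp_id]

/-- `Cone(φ ⊗ L) ≅ Cone(φ) ⊗ L` -/
noncomputable def coneTensorIso : mappingCone (φ ▷ L) ≅ mappingCone φ ⊗ L where
  hom := Ψ φ L
  inv := Φ φ L
  hom_inv_id := Ψ_Φ φ L
  inv_hom_id := Φ_Ψ φ L

end

end Groth.Agent.Lib.Helper5.HomCx
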