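import Mathlib
import Groth.Agent.Lib.Helper5.HomCx.Basic

set_option autoImplicit false
set_option linter.unusedSectionVars false
set_option linter.unusedVariables false
universe u
open CategoryTheory CategoryTheory.Limits CochainComplex CochainComplex.HomComplex

namespace Groth.Agent.Lib.Helper5.HomCx

variable {A : Type u} [CommRing A]

/-- the complex `A[0]` -/
noncomputable abbrev U (A : Type u) [CommRing A] : DRing.Cx A :=
  (CochainComplex.singleFunctor (ModuleCat.{u} A) 0).obj (ModuleCat.of A A)

/-- cochains from `A[0]` are elements -/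
noncomputable def unitEquiv (K : DRing.Cx A) (n : ℤ) : Cochain (U A) K n ≃ₗ[A] K.X n where
  toFun z := (Cochain.fromSingleEquiv (zero_add n) z).hom (1 : A)
  invFun x := Cochain.fromSingleMk (ModuleCat.ofHom (LinearMap.toSpanSingleton A (K.X n) x))
    (zero_add n)
  map_add' z z' := by
    rw [map_add]
    rfl
  map_smul' a z := by
    rfl
  left_inv z := by
    obtain ⟨f, rfl⟩ := Cochain.fromSingleMk_surjective z n (zero_add n)
    dsimp only
    rw [Cochain.fromSingleEquiv_fromSingleMk]
    congr 1
    apply ModuleCat.hom_ext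
    apply LinearMap.ext_ring
    change LinearMap.toSpanSingleton A (K.X n) (f.hom 1) 1 = f.hom 1
    rw [LinearMap.toSpanSingleton_apply, one_smul]
  right_inv x := by
    dsimp only
    rw [Cochain.fromSingleEquiv_fromSingleMk]
    change LinearMap.toSpanSingleton A (K.X n) x 1 = x
    rw [LinearMap.toSpanSingleton_apply, one_smul]

theorem unitEquiv_fromSingleMk (K : DRing.Cx A) (n : ℤ) (f : ModuleCat.of A A ⟶ K.X n) :
    unitEquiv K n (Cochain.fromSingleMk f (zero_add n)) = f.hom (1 : A) := by
  change (Cochain.fromSingleEquiv (zero_add n) (Cochain.fromSingleMk f (zero_add n))).hom 1 = _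
  rw [Cochain.fromSingleEquiv_fromSingleMk]

/-- `Hom•(A[0], K) ≅ K` -/
noncomputable def homCxUnitIso (K : DRing.Cx A) : DRing.homCx (U A) K ≅ K :=
  HomologicalComplex.Hom.isoOfComponents (fun n => (unitEquiv K n).toModuleIso)
    (by
      intro n m hnm
      have hnm' : n + 1 = m := hnm
      apply ModuleCat.hom_ext
      apply LinearMap.ext
      intro (z : Cochain (U A) K n)
      obtain ⟨f, rfl⟩ := Cochain.fromSingleMk_surjective z n (zero_add n)
      change (K.d n m).hom (unitEquiv K n (Cochain.fromSingleMk f (zero_add n))) =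
        unitEquiv K m (δ n m (Cochain.fromSingleMk f (zero_add n)))
      rw [Cochain.δ_fromSingleMk f (zero_add n) m m (zero_add m), unitEquiv_fromSingleMk,
        unitEquiv_fromSingleMk]
      rfl)

end Groth.Agent.Lib.Helper5.HomCx
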