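import Mathlib
import Groth.Agent.Lib.Helper5.HomCx.Basic
import Groth.Agent.Lib.Helper5.DRing.ConeEl

set_option autoImplicit false
set_option linter.unusedSectionVars false
set_option linter.unusedVariables false
set_option linter.style.haveILetI false
universe u
open CategoryTheory CategoryTheory.Limits CochainComplex CochainComplex.HomComplex
attribute [local instance] HasDerivedCategory.standard

namespace Groth.Agent.Lib.Helper5.HomCx

variable {A : Type u} [CommRing A]

/-- the cone of `Hom•(P, f)` is acyclic when `P` is K-projective and `f` is a quasi-isomorphism -/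
theorem acyclic_cone_homCxMap (P : DRing.Cx A) [P.IsKProjective] {L L' : DRing.Cx A} (f : L ⟶ L')
    (hf : QuasiIso f) : (mappingCone (DRing.homCxMap P f)).Acyclic := by
  have hC : (mappingCone f).Acyclic :=
    (Groth.Agent.Helper5.FlatAcyc.quasiIso_iff_acyclic_cone f).1 hf
  intro i
  rw [Groth.Agent.Helper5.ConeEl.exactAt_cone_iff (DRing.homCxMap P f) (i - 1) i (i + 1) (i + 1 + 1)
    (by omega) rfl rfl]
  intro (z : Cochain P L (i + 1)) (y : Cochain P L' i) hz hy
  have hz' : δ (i + 1) (i + 1 + 1) z = 0 := hz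
  have hy' : z.comp (Cochain.ofHom f) (add_zero (i + 1)) + δ i (i + 1) y = 0 := hy
  let w : Cochain P (mappingCone f) i := mappingCone.liftCochain f z y rfl
  have hw : δ i (i + 1) w = 0 := by
    rw [mappingCone.δ_liftCochain f z y rfl (i + 1 + 1) rfl, hz', Cochain.zero_comp, neg_zero,
      zero_add, add_comm (δ i (i + 1) y) _, hy', Cochain.zero_comp]
  obtain ⟨v, hv⟩ := exists_δ_eq_of_isKProjective P (mappingCone f) hC i (i + 1) rfl (i - 1)
    (by omega) w hw
  let z' : Cochain P L i := v.comp (mappingCone.fst f).1 (by omega)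
  let y' : Cochain P L' (i - 1) := v.comp (mappingCone.snd f) (add_zero (i - 1))
  have hv' : v = mappingCone.liftCochain f z' y' (by omega) := by
    rw [mappingCone.ext_cochain_to_iff f (i - 1) i (by omega)]
    exact ⟨(mappingCone.liftCochain_fst f z' y' (by omega)).symm,
      (mappingCone.liftCochain_snd f z' y' (by omega)).symm⟩
  have h2 : δ (i - 1) i v = mappingCone.liftCochain f (-(δ i (i + 1) z'))
      (δ (i - 1) i y' + z'.comp (Cochain.ofHom f) (add_zero i)) rfl := by
    conv_lhs => rw [hv', mappingCone.δ_liftCochain f z' y' (by omega) (i + 1) rfl]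
    rw [mappingCone.liftCochain, Cochain.neg_comp]
  rw [h2] at hv
  have e1 := congrArg (fun c => c.comp (mappingCone.fst f).1 (show i + 1 = i + 1 from rfl)) hv
  have e2 := congrArg (fun c => c.comp (mappingCone.snd f) (add_zero i)) hv
  rw [mappingCone.liftCochain_fst, mappingCone.liftCochain_fst] at e1
  rw [mappingCone.liftCochain_snd, mappingCone.liftCochain_snd] at e2
  refine ⟨z', y', e1, ?_⟩
  change z'.comp (Cochain.ofHom f) (add_zero i) + δ (i - 1) i y' = y
  rw [add_comm]
  exact e2

theorem quasiIso_homCxMap (P : DRing.Cx A) [P.IsKProjective] {L L' : DRing.Cx A} (f : L ⟶ L')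
    (hf : QuasiIso f) : QuasiIso (DRing.homCxMap P f) :=
  (Groth.Agent.Helper5.FlatAcyc.quasiIso_iff_acyclic_cone _).2 (acyclic_cone_homCxMap P f hf)

theorem isInvertedBy_homCxQ (P : DRing.Cx A) [P.IsKProjective] :
    (HomologicalComplex.quasiIso (ModuleCat.{u} A) (ComplexShape.up ℤ)).IsInvertedBy
      (DRing.homCxQ P) := by
  intro L L' f hf
  have : QuasiIso ((DRing.homCxFunctor P).map f) := quasiIso_homCxMap P f hf
  change IsIso (DerivedCategory.Q.map ((DRing.homCxFunctor P).map f))
  infer_instance

/-- S6996 -/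
theorem nonempty_RHomCx_iso (P : DRing.Cx A) [P.IsKProjective] [DRing.HasRHomCx P]
    (L : DRing.Cx A) :
    Nonempty ((DRing.RHomCx P).obj (DRing.toD L) ≅ DRing.toD (DRing.homCx P L)) := by
  haveI : IsIso ((DRing.homCxQ P).totalRightDerivedUnit DerivedCategory.Q
      (HomologicalComplex.quasiIso (ModuleCat.{u} A) (ComplexShape.up ℤ))) :=
    Functor.isIso_of_isRightDerivedFunctor_of_inverts _ _ (isInvertedBy_homCxQ P)
  exact ⟨(asIso (((DRing.homCxQ P).totalRightDerivedUnit DerivedCategory.Q
      (HomologicalComplex.quasiIso (ModuleCat.{u} A) (ComplexShape.up ℤ))).app L)).symm⟩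

end Groth.Agent.Lib.Helper5.HomCx
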