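import Mathlib
import Groth.Agent.Lib.Helper5.HomCx.Basic

set_option autoImplicit false
set_option linter.unusedSectionVars false
set_option linter.unusedVariables false
universe u
open CategoryTheory CategoryTheory.Limits MonoidalCategory CochainComplex CochainComplex.HomComplex

namespace Groth.Agent.Lib.Helper5.HomCx

variable {A : Type u} [CommRing A]

theorem homCxPre_zero (P P' l : DRing.Cx A) : homCxPre (0 : P ⟶ P') l = 0 := by
  refine HomologicalComplex.hom_ext _ _ fun i =>
    ModuleCat.hom_ext (LinearMap.ext fun (z : Cochain P' l i) => ?_)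
  change (Cochain.ofHom (0 : P ⟶ P')).comp z (zero_add i) = 0
  rw [Cochain.ofHom_zero, Cochain.zero_comp]

section
variable (S : ShortComplex (DRing.Cx A))
  (σ : ∀ n, (S.map (HomologicalComplex.eval _ _ n)).Splitting) (l : DRing.Cx A)

/-- the retraction cochain -/
noncomputable def rC : Cochain S.X₂ S.X₁ 0 := Cochain.ofHoms (fun q => (σ q).r)
/-- the section cochain -/
noncomputable def sC : Cochain S.X₃ S.X₂ 0 := Cochain.ofHoms (fun q => (σ q).s)

theorem f_rC : (Cochain.ofHom S.f).comp (rC S σ) (add_zero 0) = Cochain.ofHom (𝟙 S.X₁) := by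
  dsimp only [rC, Cochain.ofHom]
  rw [Cochain.ofHoms_comp]
  congr 1
  funext q
  exact (σ q).f_r

theorem sC_g : (sC S σ).comp (Cochain.ofHom S.g) (add_zero 0) = Cochain.ofHom (𝟙 S.X₃) := by
  dsimp only [sC, Cochain.ofHom]
  rw [Cochain.ofHoms_comp]
  congr 1
  funext q
  exact (σ q).s_g

theorem rC_f_add : (rC S σ).comp (Cochain.ofHom S.f) (add_zero 0) +
    (Cochain.ofHom S.g).comp (sC S σ) (add_zero 0) = Cochain.ofHom (𝟙 S.X₂) := by
  dsimp only [rC, sC, Cochain.ofHom]
  rw [Cochain.ofHoms_comp, Cochain.ofHoms_comp]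
  refine Cochain.ext₀ _ _ (fun q => ?_)
  rw [Cochain.add_v, Cochain.ofHoms_v, Cochain.ofHoms_v, Cochain.ofHoms_v]
  exact (σ q).id

include σ in
/-- the contravariant Hom complex sends degreewise split short exact sequences to short exact
sequences -/
theorem shortExact_homCx :
    (ShortComplex.mk (homCxPre S.g l) (homCxPre S.f l)
      (by rw [← homCxPre_comp, S.zero, homCxPre_zero])).ShortExact := by
  rw [HomologicalComplex.shortExact_iff_degreewise_shortExact]
  intro n
  refine { exact := ?_, mono_f := ?_, epi_g := ?_ }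
  · rw [ShortComplex.moduleCat_exact_iff]
    intro (z : Cochain S.X₂ l n) hz
    have hz' : (Cochain.ofHom S.f).comp z (zero_add n) = 0 := hz
    refine ⟨((sC S σ).comp z (zero_add n) : Cochain S.X₃ l n), ?_⟩
    change (Cochain.ofHom S.g).comp ((sC S σ).comp z (zero_add n)) (zero_add n) = z
    have h1 : z = (Cochain.ofHom (𝟙 S.X₂)).comp z (zero_add n) := (Cochain.id_comp z).symm
    rw [← rC_f_add S σ, Cochain.add_comp,
      Cochain.comp_assoc_of_first_is_zero_cochain, hz', Cochain.comp_zero, zero_add,
      Cochain.comp_assoc_of_first_is_zero_cochain] at h1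
    exact h1.symm
  · rw [ModuleCat.mono_iff_injective]
    intro (z : Cochain S.X₃ l n) (z' : Cochain S.X₃ l n) hzz'
    have h : (Cochain.ofHom S.g).comp z (zero_add n) = (Cochain.ofHom S.g).comp z' (zero_add n) :=
      hzz'
    have h2 : (sC S σ).comp ((Cochain.ofHom S.g).comp z (zero_add n)) (zero_add n) =
        (sC S σ).comp ((Cochain.ofHom S.g).comp z' (zero_add n)) (zero_add n) := by rw [h]
    rw [← Cochain.comp_assoc_of_first_is_zero_cochain,
      ← Cochain.comp_assoc_of_first_is_zero_cochain, sC_g, Cochain.id_comp, Cochain.id_comp] at h2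
    exact h2
  · rw [ModuleCat.epi_iff_surjective]
    intro (y : Cochain S.X₁ l n)
    refine ⟨((rC S σ).comp y (zero_add n) : Cochain S.X₂ l n), ?_⟩
    change (Cochain.ofHom S.f).comp ((rC S σ).comp y (zero_add n)) (zero_add n) = y
    rw [← Cochain.comp_assoc_of_first_is_zero_cochain, f_rC, Cochain.id_comp]

end

end Groth.Agent.Lib.Helper5.HomCx
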