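import Mathlib
import Groth.Agent.Lib.Helper5.HomCx.Uncurry

set_option autoImplicit false
set_option linter.unusedSectionVars false
set_option linter.unusedVariables false
universe u
open CategoryTheory CategoryTheory.Limits MonoidalCategory CochainComplex CochainComplex.HomComplex

namespace Groth.Agent.Lib.Helper5.HomCx

variable {A : Type u} [CommRing A]

theorem uncurry_zero (w P l : DRing.Cx A) : uncurry (0 : w ⟶ DRing.homCx P l) = 0 :=
  Cochain.ofHom_injective (by rw [ofHom_uncurry, Cochain.ofHom_zero, Cochain.ofHom_zero, unc_zero])

/-- the tensor product of two K-projective complexes is K-projective -/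
theorem isKProjective_tensor (w P : DRing.Cx A) [w.IsKProjective] [P.IsKProjective] :
    (w ⊗ P).IsKProjective where
  nonempty_homotopy_zero {N} h hN := by
    obtain ⟨H⟩ := IsKProjective.nonempty_homotopy_zero (curry h) (acyclic_homCx P N hN)
    have H' := uncurryHomotopy H
    rw [uncurry_curry, uncurry_zero] at H'
    exact ⟨H'⟩

end Groth.Agent.Lib.Helper5.HomCx
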