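import Mathlib
import Groth.Agent.Lib.Helper5.HomCx.Basic

set_option autoImplicit false
set_option linter.unusedSectionVars false
set_option linter.unusedVariables false
universe u
open CategoryTheory CategoryTheory.Limits CochainComplex CochainComplex.HomComplex

namespace Groth.Agent.Lib.Helper5.HomCx

variable {A : Type u} [CommRing A]

/-- precomposition with a cochain of degree `-1`, with the sign making it a homotopy -/
noncomputable def preHLin {P P' : DRing.Cx A} (H : Cochain P P' (-1)) (l : DRing.Cx A)
    (p q : ℤ) (hpq : p + (-1) = q) : Cochain P' l p →ₗ[A] Cochain P l q where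
  toFun z := p.negOnePow • H.comp z (by omega)
  map_add' z z' := by simp
  map_smul' a z := by
    simp only [Cochain.comp_smul, RingHom.id_apply]
    rw [smul_comm]

/-- the cochain of degree `-1` between Hom complexes induced by a cochain of degree `-1` -/
noncomputable def preHCochain {P P' : DRing.Cx A} (H : Cochain P P' (-1)) (l : DRing.Cx A) :
    Cochain (DRing.homCx P' l) (DRing.homCx P l) (-1) :=
  Cochain.mk (fun p q hpq => ModuleCat.ofHom (preHLin H l p q hpq))

theorem preHCochain_spec {P P' : DRing.Cx A} (f g : P ⟶ P') (H : Cochain P P' (-1))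
    (hH : Cochain.ofHom f = δ (-1) 0 H + Cochain.ofHom g) (l : DRing.Cx A) :
    Cochain.ofHom (homCxPre f l) = δ (-1) 0 (preHCochain H l) + Cochain.ofHom (homCxPre g l) := by
  refine Cochain.ext₀ _ _ (fun p => ?_)
  rw [Cochain.add_v, Cochain.ofHom_v, Cochain.ofHom_v,
    δ_v (-1) 0 (by omega) (preHCochain H l) p p (add_zero p) (p - 1) (p + 1) (by omega) rfl]
  apply ModuleCat.hom_ext
  apply LinearMap.ext
  intro (z : Cochain P' l p)
  have e1 : ((homCxPre f l).f p).hom z = (Cochain.ofHom f).comp z (zero_add p) := rfl
  have e2 : ((homCxPre g l).f p).hom z = (Cochain.ofHom g).comp z (zero_add p) := rfl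
  rw [ModuleCat.hom_add, ModuleCat.hom_add, LinearMap.add_apply, LinearMap.add_apply, e1, e2, hH,
    Cochain.add_comp]
  rw [Int.negOnePow_zero, one_smul]
  congr 1
  symm
  change ((δ (p - 1) p (p.negOnePow • H.comp z (by omega)) +
    (p + 1).negOnePow • H.comp (δ p (p + 1) z) (by omega) : Cochain P l p)) = _
  rw [δ_units_smul, δ_comp H z (show (-1 : ℤ) + p = p - 1 by omega) 0 (p + 1) p (by omega) (by omega) rfl,
    smul_add, smul_smul, Int.units_mul_self, one_smul, Int.negOnePow_succ, Units.neg_smul]
  abel

/-- homotopic maps induce homotopic maps on Hom complexes -/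
noncomputable def homCxPreHomotopy {P P' : DRing.Cx A} {f g : P ⟶ P'} (h : Homotopy f g)
    (l : DRing.Cx A) : Homotopy (homCxPre f l) (homCxPre g l) :=
  (Cochain.equivHomotopy _ _).symm
    ⟨preHCochain (Cochain.equivHomotopy f g h).1 l,
      preHCochain_spec f g _ (Cochain.equivHomotopy f g h).2 l⟩

/-- homotopy equivalent complexes have homotopy equivalent Hom complexes -/
noncomputable def homCxPreHomotopyEquiv {P P' : DRing.Cx A} (e : HomotopyEquiv P P')
    (l : DRing.Cx A) : HomotopyEquiv (DRing.homCx P' l) (DRing.homCx P l) where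
  hom := homCxPre e.hom l
  inv := homCxPre e.inv l
  homotopyHomInvId := by
    have h := homCxPreHomotopy e.homotopyInvHomId l
    rw [homCxPre_comp, homCxPre_id] at h
    exact h
  homotopyInvHomId := by
    have h := homCxPreHomotopy e.homotopyHomInvId l
    rw [homCxPre_comp, homCxPre_id] at h
    exact h

end Groth.Agent.Lib.Helper5.HomCx
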