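import Mathlib
import Groth.Agent.Lib.Helper5.HomCx.Basic

set_option autoImplicit false
set_option linter.unusedSectionVars false
set_option linter.unusedVariables false
universe u
open CategoryTheory CategoryTheory.Limits CochainComplex CochainComplex.HomComplex

namespace Groth.Agent.Lib.Helper5.HomCx

variable {A : Type u} [CommRing A]

/-- an isomorphism in the first variable induces an isomorphism of Hom complexes -/
noncomputable def homCxPreIso {P P' : DRing.Cx A} (e : P ≅ P') (l : DRing.Cx A) :
    DRing.homCx P' l ≅ DRing.homCx P l where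
  hom := homCxPre e.hom l
  inv := homCxPre e.inv l
  hom_inv_id := by rw [← homCxPre_comp, e.inv_hom_id, homCxPre_id]
  inv_hom_id := by rw [← homCxPre_comp, e.hom_inv_id, homCxPre_id]

/-- `Hom•(E⟦a⟧, K) ≅ Hom•(E, K)⟦-a⟧` -/
noncomputable def homCxShiftIso (E K : DRing.Cx A) (a : ℤ) :
    DRing.homCx (E⟦a⟧) K ≅ (DRing.homCx E K)⟦-a⟧ :=
  HomologicalComplex.Hom.isoOfComponents
    (fun n' => (Cochain.leftShiftLinearEquiv A E K (n' + -a) a n' (by omega)).symm.toModuleIso)
    (by
      intro n' m' hnm
      have hnm' : n' + 1 = m' := hnm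
      apply ModuleCat.hom_ext
      apply LinearMap.ext
      intro (γ' : Cochain (E⟦a⟧) K n')
      obtain ⟨γ, rfl⟩ := (Cochain.leftShiftLinearEquiv A E K (n' + -a) a n' (by omega)).surjective γ'
      symm
      change (Cochain.leftShiftLinearEquiv A E K (m' + -a) a m' (by omega)).symm
          (δ n' m' ((Cochain.leftShiftLinearEquiv A E K (n' + -a) a n' (by omega)) γ)) =
        (((DRing.homCx E K)⟦-a⟧).d n' m').hom
          ((Cochain.leftShiftLinearEquiv A E K (n' + -a) a n' (by omega)).symm
            ((Cochain.leftShiftLinearEquiv A E K (n' + -a) a n' (by omega)) γ))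
      rw [LinearEquiv.symm_apply_apply, CochainComplex.shiftFunctor_obj_d']
      change _ = (-a).negOnePow • δ (n' + -a) (m' + -a) γ
      rw [LinearEquiv.symm_apply_eq, Int.negOnePow_neg]
      change δ n' m' (γ.leftShift a n' (by omega)) =
        (a.negOnePow • δ (n' + -a) (m' + -a) γ).leftShift a m' (by omega)
      rw [Cochain.leftShift_units_smul]
      exact Cochain.δ_leftShift γ a n' m' (by omega) (m' + -a) (by omega))

end Groth.Agent.Lib.Helper5.HomCx
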