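import Mathlib
import Groth.Agent.Lib.Helper5.HomCx.SplitSES
import Groth.Agent.Lib.Helper5.HomCx.ShiftIso
import Groth.Agent.Lib.Helper5.HomCx.UnitIso
import Groth.Agent.Lib.Helper5.HomCx.PreHtpy
import Groth.Agent.Lib.Helper5.KFlat.Split

set_option autoImplicit false
set_option linter.unusedSectionVars false
set_option linter.unusedVariables false
universe u
open CategoryTheory CategoryTheory.Limits CochainComplex CochainComplex.HomComplex

namespace Groth.Agent.Lib.Helper5.HomCx

open Groth.Agent.Lib.Helper5.KFlat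

variable {A : Type u} [CommRing A]

/-- the class of complexes `E` such that `Hom•(E, K)` is K-flat -/
def Good (K E : DRing.Cx A) : Prop := DRing.IsKFlat A (DRing.homCx E K)

variable {K : DRing.Cx A}

theorem good_of_iso {E E' : DRing.Cx A} (e : E ≅ E') (h : Good K E) : Good K E' :=
  isKFlat_of_iso (homCxPreIso e K).symm h

theorem good_shift {E : DRing.Cx A} (h : Good K E) (a : ℤ) : Good K (E⟦a⟧) :=
  isKFlat_of_iso (homCxShiftIso E K a).symm (isKFlat_shift h (-a))

theorem good_unit (hK : DRing.IsKFlat A K) : Good K (U A) :=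
  isKFlat_of_iso (homCxUnitIso K).symm hK

theorem good_retract {E E' : DRing.Cx A} (i : E' ⟶ E) (r : E ⟶ E') (hir : i ≫ r = 𝟙 E')
    (h : Good K E) : Good K E' :=
  isKFlat_of_retract (homCxPre r K) (homCxPre i K)
    (by rw [← homCxPre_comp, hir, homCxPre_id]) h

theorem good_homotopyEquiv {E E' : DRing.Cx A} (e : HomotopyEquiv E E') (h : Good K E) :
    Good K E' :=
  isKFlat_of_homotopyEquiv (homCxPreHomotopyEquiv e K).symm h

theorem good_of_isZero_X (hK : DRing.IsKFlat A K) (Z : DRing.Cx A) (hZ : ∀ n : ℤ, IsZero (Z.X n)) :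
    Good K Z := by
  refine good_retract (0 : Z ⟶ U A) (0 : U A ⟶ Z) ?_ (good_unit hK)
  rw [zero_comp]
  ext n : 1
  exact (hZ n).eq_of_src _ _

section ses

variable (S : ShortComplex (DRing.Cx A))
  (σ : ∀ q : ℤ, (S.map (HomologicalComplex.eval (ModuleCat.{u} A) (ComplexShape.up ℤ) q)).Splitting)
  (l : DRing.Cx A)

/-- the Hom sequence of a degreewise split sequence is degreewise split -/
noncomputable def splittingHomCx (n : ℤ) :
    ((ShortComplex.mk (homCxPre S.g l) (homCxPre S.f l)
      (by rw [← homCxPre_comp, S.zero, homCxPre_zero])).map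
        (HomologicalComplex.eval (ModuleCat.{u} A) (ComplexShape.up ℤ) n)).Splitting where
  r := ModuleCat.ofHom
    { toFun := fun (z : Cochain S.X₂ l n) => ((sC S σ).comp z (zero_add n) : Cochain S.X₃ l n)
      map_add' := fun z z' => by simp
      map_smul' := fun a z => by simp }
  s := ModuleCat.ofHom
    { toFun := fun (y : Cochain S.X₁ l n) => ((rC S σ).comp y (zero_add n) : Cochain S.X₂ l n)
      map_add' := fun z z' => by simp
      map_smul' := fun a z => by simp }
  f_r := by
    apply ModuleCat.hom_ext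
    apply LinearMap.ext
    intro (z : Cochain S.X₃ l n)
    change (sC S σ).comp ((Cochain.ofHom S.g).comp z (zero_add n)) (zero_add n) = z
    rw [← Cochain.comp_assoc_of_first_is_zero_cochain, sC_g, Cochain.id_comp]
  s_g := by
    apply ModuleCat.hom_ext
    apply LinearMap.ext
    intro (y : Cochain S.X₁ l n)
    change (Cochain.ofHom S.f).comp ((rC S σ).comp y (zero_add n)) (zero_add n) = y
    rw [← Cochain.comp_assoc_of_first_is_zero_cochain, f_rC, Cochain.id_comp]
  id := by
    apply ModuleCat.hom_ext
    apply LinearMap.ext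
    intro (z : Cochain S.X₂ l n)
    change (Cochain.ofHom S.g).comp ((sC S σ).comp z (zero_add n)) (zero_add n) +
      (rC S σ).comp ((Cochain.ofHom S.f).comp z (zero_add n)) (zero_add n) = z
    rw [← Cochain.comp_assoc_of_first_is_zero_cochain,
      ← Cochain.comp_assoc_of_first_is_zero_cochain, ← Cochain.add_comp, add_comm, rC_f_add,
      Cochain.id_comp]

include σ in
theorem good_ses (h1 : Good l S.X₁) (h3 : Good l S.X₃) : Good l S.X₂ :=
  (isKFlat_ses_split _ (splittingHomCx S σ l)).2.1 h3 h1

end ses

end Groth.Agent.Lib.Helper5.HomCx
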