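import Mathlib
import Groth.Agent.Lib.Helper5.HomCx.Good

set_option autoImplicit false
set_option linter.unusedSectionVars false
set_option linter.unusedVariables false
universe u
open CategoryTheory CategoryTheory.Limits CochainComplex CochainComplex.HomComplex

namespace Groth.Agent.Lib.Helper5.HomCx

open Groth.Agent.Lib.Helper5.KFlat

variable {A : Type u} [CommRing A] {K : DRing.Cx A}

/-- the single complex functor -/
noncomputable abbrev Sg (c : ℤ) : ModuleCat.{u} A ⥤ DRing.Cx A :=
  CochainComplex.singleFunctor (ModuleCat.{u} A) c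

/-- modules all of whose single complexes are good -/
def GoodMod (K : DRing.Cx A) (M : ModuleCat.{u} A) : Prop := ∀ c : ℤ, Good K ((Sg c).obj M)

theorem goodMod_unit (hK : DRing.IsKFlat A K) : GoodMod K (ModuleCat.of A A) := by
  intro c
  exact good_of_iso (((CochainComplex.singleFunctors (ModuleCat.{u} A)).shiftIso (-c) c 0
    (by omega)).app (ModuleCat.of A A)) (good_shift (good_unit hK) (-c))

theorem goodMod_of_iso {M M' : ModuleCat.{u} A} (e : M ≅ M') (h : GoodMod K M) : GoodMod K M' :=
  fun c => good_of_iso ((Sg c).mapIso e) (h c)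

theorem goodMod_retract {M M' : ModuleCat.{u} A} (i : M' ⟶ M) (r : M ⟶ M') (hir : i ≫ r = 𝟙 M')
    (h : GoodMod K M) : GoodMod K M' :=
  fun c => good_retract ((Sg c).map i) ((Sg c).map r)
    (by rw [← Functor.map_comp, hir, CategoryTheory.Functor.map_id]) (h c)

/-- the split short complex of a product -/
noncomputable def prodSC (M₁ M₂ : Type u) [AddCommGroup M₁] [Module A M₁] [AddCommGroup M₂]
    [Module A M₂] : ShortComplex (ModuleCat.{u} A) :=
  ShortComplex.mk (ModuleCat.ofHom (LinearMap.inl A M₁ M₂)) (ModuleCat.ofHom (LinearMap.snd A M₁ M₂))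
    (by
      apply ModuleCat.hom_ext
      apply LinearMap.ext
      intro x
      rfl)

noncomputable def prodSCSplitting (M₁ M₂ : Type u) [AddCommGroup M₁] [Module A M₁] [AddCommGroup M₂]
    [Module A M₂] : (prodSC (A := A) M₁ M₂).Splitting where
  r := ModuleCat.ofHom (LinearMap.fst A M₁ M₂)
  s := ModuleCat.ofHom (LinearMap.inr A M₁ M₂)
  f_r := by
    apply ModuleCat.hom_ext
    apply LinearMap.ext
    intro x
    rfl
  s_g := by
    apply ModuleCat.hom_ext
    apply LinearMap.ext
    intro x
    rfl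
  id := by
    apply ModuleCat.hom_ext
    apply LinearMap.ext
    intro x
    change ((x.1, (0 : M₂)) : M₁ × M₂) + ((0 : M₁), x.2) = x
    ext <;> simp

theorem goodMod_prod (M₁ M₂ : Type u) [AddCommGroup M₁] [Module A M₁] [AddCommGroup M₂]
    [Module A M₂] (h1 : GoodMod K (ModuleCat.of A M₁)) (h2 : GoodMod K (ModuleCat.of A M₂)) :
    GoodMod K (ModuleCat.of A (M₁ × M₂)) := by
  intro c
  exact good_ses ((prodSC (A := A) M₁ M₂).map (Sg c))
    (fun q => (prodSCSplitting (A := A) M₁ M₂).map
      (Sg c ⋙ HomologicalComplex.eval (ModuleCat.{u} A) (ComplexShape.up ℤ) q)) K (h1 c) (h2 c)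

theorem goodMod_of_subsingleton (hK : DRing.IsKFlat A K) (M : ModuleCat.{u} A) [Subsingleton M] :
    GoodMod K M := by
  refine goodMod_retract (0 : M ⟶ ModuleCat.of A A) 0 ?_ (goodMod_unit hK)
  rw [zero_comp]
  exact (ModuleCat.isZero_of_subsingleton M).eq_of_src _ _

theorem goodMod_pi_fin (hK : DRing.IsKFlat A K) (k : ℕ) :
    GoodMod K (ModuleCat.of A (Fin k → A)) := by
  induction k with
  | zero => exact goodMod_of_subsingleton hK _
  | succ k ih =>
    exact goodMod_of_iso (Fin.consLinearEquiv A (fun _ : Fin (k + 1) => A)).toModuleIso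
      (goodMod_prod A (Fin k → A) (goodMod_unit hK) ih)

theorem goodMod_of_finite_projective (hK : DRing.IsKFlat A K) (M : ModuleCat.{u} A)
    [Module.Finite A M] [Module.Projective A M] : GoodMod K M := by
  obtain ⟨n, f, g, -, -, hfg⟩ := Module.Finite.exists_comp_eq_id_of_projective A M
  refine goodMod_retract (ModuleCat.ofHom g) (ModuleCat.ofHom f) ?_ (goodMod_pi_fin hK n)
  rw [← ModuleCat.ofHom_comp, hfg]
  rfl

end Groth.Agent.Lib.Helper5.HomCx
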