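import Mathlib
import Groth.Agent.Lib.Helper5.HomCx.GoodSingle
import Groth.Agent.Lib.Helper5.Misc.StupidTrunc

set_option autoImplicit false
set_option linter.unusedSectionVars false
set_option linter.unusedVariables false
set_option linter.style.haveILetI false
universe u
open CategoryTheory CategoryTheory.Limits CochainComplex CochainComplex.HomComplex

namespace Groth.Agent.Lib.Helper5.HomCx

open Groth.Agent.Lib.Helper5.KFlat Groth.Agent.Lib.Helper5.Misc.StupidTrunc

variable {A : Type u} [CommRing A] {K : DRing.Cx A}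

/-- a complex concentrated in one degree with finite projective term is good -/
theorem good_of_concentrated (hK : DRing.IsKFlat A K) (Q : DRing.Cx A) (c : ℤ)
    (hz : ∀ n : ℤ, n ≠ c → IsZero (Q.X n)) (hf : Module.Finite A (Q.X c))
    (hp : Module.Projective A (Q.X c)) : Good K Q := by
  haveI : Q.IsStrictlyGE c := (CochainComplex.isStrictlyGE_iff Q c).2 (fun i hi => hz i (by omega))
  haveI : Q.IsStrictlyLE c := (CochainComplex.isStrictlyLE_iff Q c).2 (fun i hi => hz i (by omega))
  obtain ⟨M, ⟨e⟩⟩ := CochainComplex.exists_iso_single Q c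
  let eM : Q.X c ≅ M :=
    (HomologicalComplex.eval _ _ c).mapIso e ≪≫
      HomologicalComplex.singleObjXSelf (ComplexShape.up ℤ) c M
  haveI : Module.Finite A M := Module.Finite.equiv eM.toLinearEquiv
  haveI : Module.Projective A M := Module.Projective.of_equiv eM.toLinearEquiv
  exact good_of_iso e.symm (goodMod_of_finite_projective hK M c)

/-- the degreewise splittings of the truncation sequence -/
noncomputable def quotSCSplitting (E : DRing.Cx A) (c n : ℤ) :
    ((quotSC E c).map (HomologicalComplex.eval (ModuleCat.{u} A) (ComplexShape.up ℤ) n)).Splitting := by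
  have hS := quotSC_degree E c n
  by_cases h : c + 1 ≤ n
  · have hiso : IsIso ((quotSC E c).f.f n) := by
      show IsIso (tι E (c + 1) n ≫ tπ E c n)
      haveI := isIso_tι E h
      haveI := isIso_tπ E (show c ≤ n by omega)
      infer_instance
    exact ShortComplex.Splitting.ofExactOfRetraction _ hS.exact
      (@inv _ _ _ _ ((quotSC E c).f.f n) hiso)
      (@IsIso.hom_inv_id _ _ _ _ ((quotSC E c).f.f n) hiso) hS.epi_g
  · exact ShortComplex.Splitting.ofExactOfRetraction _ hS.exact 0
      ((isZero_tX E h).eq_of_src _ _) hS.epi_g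

theorem good_sigmaGE (hK : DRing.IsKFlat A K) (E : DRing.Cx A) (b : ℤ)
    (hb : ∀ i : ℤ, b < i → IsZero (E.X i))
    (hfp : ∀ i : ℤ, Module.Finite A (E.X i) ∧ Module.Projective A (E.X i)) (m : ℕ) :
    Good K (sigmaGE E (b + 1 - m)) := by
  induction m with
  | zero =>
    refine good_of_isZero_X hK _ (fun n => ?_)
    by_cases h : b + 1 - ((0 : ℕ) : ℤ) ≤ n
    · have hn : b < n := by
        have : b + 1 - ((0 : ℕ) : ℤ) = b + 1 := by simp
        omega
      exact IsZero.of_iso (hb n hn) (@asIso _ _ _ _ (tι E _ n) (isIso_tι E h))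
    · exact isZero_tX E h
  | succ m ih =>
    have e : b + 1 - ((m + 1 : ℕ) : ℤ) + 1 = b + 1 - (m : ℤ) := by push_cast; ring
    set c := b + 1 - ((m + 1 : ℕ) : ℤ) with hc
    have h1 : Good K (quotSC E c).X₁ := by
      show Good K (sigmaGE E (c + 1))
      rw [e]
      exact ih
    have h3 : Good K (quotSC E c).X₃ := by
      refine good_of_concentrated hK _ c (fun n hn => isZero_quotSC_X₃ E c n hn) ?_ ?_
      · haveI := (hfp c).1
        exact Module.Finite.equiv (quotSCX₃Iso E c).symm.toLinearEquiv
      · haveI := (hfp c).2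
        exact Module.Projective.of_equiv (quotSCX₃Iso E c).symm.toLinearEquiv
    exact good_ses (quotSC E c) (quotSCSplitting E c) K h1 h3

/-- bounded complexes of finite projective modules are good -/
theorem good_of_strictlyPerfect (hK : DRing.IsKFlat A K) (E : DRing.Cx A) (a b : ℤ)
    (hE : DRing.VanishesOutside E a b) (hfp : DRing.TermwiseFiniteProjective E) : Good K E := by
  obtain ⟨m, hm⟩ : ∃ m : ℕ, b + 1 - (m : ℤ) ≤ a := ⟨(b + 1 - a).toNat, by omega⟩
  have h := good_sigmaGE hK E b (fun i hi => hE i (Or.inr hi)) hfp m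
  haveI : IsIso (ιGE E (b + 1 - (m : ℤ))) := by
    haveI : ∀ n, IsIso ((ιGE E (b + 1 - (m : ℤ))).f n) := by
      intro n
      by_cases hn : b + 1 - (m : ℤ) ≤ n
      · exact isIso_tι E hn
      · exact ⟨0, (isZero_tX E hn).eq_of_src _ _, (hE n (Or.inl (by omega))).eq_of_src _ _⟩
    exact HomologicalComplex.Hom.isIso_of_components _
  exact good_of_iso (asIso (ιGE E (b + 1 - (m : ℤ)))) h

end Groth.Agent.Lib.Helper5.HomCx
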