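import Mathlib
import Groth.Agent.Lib.Helper5.HomCx.GoodTrunc
import Groth.Agent.Lib.Helper5.DTenLib.Basic

set_option autoImplicit false
set_option linter.unusedSectionVars false
set_option linter.unusedVariables false
set_option linter.style.haveILetI false
universe u
open CategoryTheory CategoryTheory.Limits CochainComplex CochainComplex.HomComplex
attribute [local instance] HasDerivedCategory.standard

namespace Groth.Agent.Lib.Helper5.HomCx

open Groth.Agent.Lib.Helper5.KFlat Groth.Agent.Lib.Helper5.DTenLib

variable {A : Type u} [CommRing A]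

theorem isKProjective_of_vanishesAbove (P : DRing.Cx A) (b : ℤ) (hb : DRing.VanishesAbove P b)
    (hP : ∀ i : ℤ, Module.Projective A (P.X i)) : P.IsKProjective := by
  haveI : P.IsStrictlyLE b := (CochainComplex.isStrictlyLE_iff P b).2 hb
  haveI : ∀ n : ℤ, Projective (P.X n) := fun n => by
    haveI := hP n
    exact (P.X n).projective_of_categoryTheory_projective
  exact CochainComplex.isKProjective_of_projective P b

/-- K-projective complexes isomorphic in the derived category are homotopy equivalent -/
theorem nonempty_homotopyEquiv_of_iso (P E : DRing.Cx A) [P.IsKProjective] [E.IsKProjective]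
    (e : DRing.toD E ≅ DRing.toD P) : Nonempty (HomotopyEquiv E P) := by
  obtain ⟨f, hf⟩ := exists_Q_map_eq E P e.hom
  obtain ⟨g, hg⟩ := exists_Q_map_eq P E e.inv
  obtain ⟨h1⟩ := homotopy_of_Q_map_eq E (f ≫ g) (𝟙 E) (by
    rw [Functor.map_comp, hf, hg, e.hom_inv_id, CategoryTheory.Functor.map_id])
  obtain ⟨h2⟩ := homotopy_of_Q_map_eq P (g ≫ f) (𝟙 P) (by
    rw [Functor.map_comp, hf, hg, e.inv_hom_id, CategoryTheory.Functor.map_id])
  exact ⟨{ hom := f, inv := g, homotopyHomInvId := h1, homotopyInvHomId := h2 }⟩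

/-- S7088 -/
theorem isKFlat_homCx_of_perfect (P K : DRing.Cx A) (b : ℤ) (hPb : DRing.VanishesAbove P b)
    (hPp : ∀ i : ℤ, Module.Projective A (P.X i)) (hperf : DRing.IsPerfect A (DRing.toD P))
    (hK : DRing.IsKFlat A K) : DRing.IsKFlat A (DRing.homCx P K) := by
  obtain ⟨E, a, b', hE, hfp, ⟨e⟩⟩ := hperf
  haveI := isKProjective_of_vanishesAbove P b hPb hPp
  haveI := isKProjective_of_vanishesAbove E b' (fun i hi => hE i (Or.inr hi)) (fun i => (hfp i).2)
  obtain ⟨he⟩ := nonempty_homotopyEquiv_of_iso P E e
  exact good_homotopyEquiv he (good_of_strictlyPerfect hK E a b' hE hfp)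

end Groth.Agent.Lib.Helper5.HomCx
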