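import Mathlib
import Groth.Agent.Lib.Helper5.HomCx.KProjTensor
import Groth.Agent.Lib.Helper5.DTenLib.Basic
import Groth.Prelude.Def_DTen3

set_option autoImplicit false
set_option linter.unusedSectionVars false
set_option linter.unusedVariables false
universe u
open CategoryTheory CategoryTheory.Limits MonoidalCategory CochainComplex CochainComplex.HomComplex
attribute [local instance] HasDerivedCategory.standard

namespace Groth.Agent.Lib.Helper5.HomCx

open DTen Groth.Agent.Lib.Helper5.DTenLib Groth.Agent.Lib.Helper5.KProj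
  Groth.Agent.Lib.Helper5.KFlat

variable {A : Type u} [CommRing A] [HasLTen A]

/-- the derived evaluation `Q Hom(P, l) ⊗^L Q P ⟶ L` -/
noncomputable def evD (P l : DRing.Cx A) (L : Dual.D A) (eL : DerivedCategory.Q.obj l ≅ L) :
    (LTen₂ A).obj (DerivedCategory.Q.obj (DRing.homCx P l), DerivedCategory.Q.obj P) ⟶ L :=
  (ε A).app (DRing.homCx P l, P) ≫ DerivedCategory.Q.map (ev P l) ≫ eL.hom

theorem ε_naturality_left {w w' : DRing.Cx A} (g : w ⟶ w') (P : DRing.Cx A) :
    (LTen₂ A).map (Prod.mkHom (DerivedCategory.Q.map g) (𝟙 (DerivedCategory.Q.obj P))) ≫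
      (ε A).app (w', P) = (ε A).app (w, P) ≫ DerivedCategory.Q.map (g ▷ P) := by
  have := (ε A).naturality (X := (w, P)) (Y := (w', P)) (Prod.mkHom g (𝟙 P))
  dsimp at this
  rw [MonoidalCategory.whiskerLeft_id, Category.comp_id, CategoryTheory.Functor.map_id] at this
  exact this

theorem ε_naturality_right (w : DRing.Cx A) {P P' : DRing.Cx A} (φ : P ⟶ P') :
    (LTen₂ A).map (Prod.mkHom (𝟙 (DerivedCategory.Q.obj w)) (DerivedCategory.Q.map φ)) ≫
      (ε A).app (w, P') = (ε A).app (w, P) ≫ DerivedCategory.Q.map (w ◁ φ) := by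
  have := (ε A).naturality (X := (w, P)) (Y := (w, P')) (Prod.mkHom (𝟙 w) φ)
  dsimp at this
  rw [MonoidalCategory.id_whiskerRight, Category.id_comp, CategoryTheory.Functor.map_id] at this
  exact this

/-- the map `f ↦ (f ⊗ id) ≫ evD` on `Q`-images of chain maps -/
theorem map_comp_evD {w : DRing.Cx A} (P l : DRing.Cx A) (L : Dual.D A)
    (eL : DerivedCategory.Q.obj l ≅ L) (g : w ⟶ DRing.homCx P l) :
    (LTen₂ A).map (Prod.mkHom (DerivedCategory.Q.map g) (𝟙 (DerivedCategory.Q.obj P))) ≫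
      evD P l L eL = (ε A).app (w, P) ≫ DerivedCategory.Q.map (uncurry g) ≫ eL.hom := by
  dsimp [evD]
  rw [← Category.assoc, ε_naturality_left, Category.assoc, uncurry_eq, Functor.map_comp,
    Category.assoc]


theorem bijective_evD (w : DRing.Cx A) [w.IsKProjective] (P l : DRing.Cx A) (L : Dual.D A)
    (eL : DerivedCategory.Q.obj l ≅ L) [P.IsKProjective] (hP : DRing.IsKFlat A P) :
    Function.Bijective (fun f : DerivedCategory.Q.obj w ⟶ DerivedCategory.Q.obj (DRing.homCx P l) =>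
      (LTen₂ A).map (Prod.mkHom f (𝟙 (DerivedCategory.Q.obj P))) ≫ evD P l L eL) := by
  haveI : IsIso ((ε A).app (w, P)) := isIso_ε_of_isKFlat A w P (Or.inr hP)
  haveI := isKProjective_tensor w P
  constructor
  · intro f f' hff'
    dsimp only at hff'
    obtain ⟨g, rfl⟩ := exists_Q_map_eq w _ f
    obtain ⟨g', rfl⟩ := exists_Q_map_eq w _ f'
    rw [map_comp_evD, map_comp_evD] at hff'
    have h1 : DerivedCategory.Q.map (uncurry g) = DerivedCategory.Q.map (uncurry g') :=
      (cancel_mono eL.hom).1 ((cancel_epi _).1 hff')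
    obtain ⟨H⟩ := homotopy_of_Q_map_eq (w ⊗ P) _ _ h1
    have H' := curryHomotopy H
    rw [curry_uncurry, curry_uncurry] at H'
    exact Q_map_eq_of_homotopy H'
  · intro u
    obtain ⟨h, hh⟩ := exists_Q_map_eq (w ⊗ P) l (inv ((ε A).app (w, P)) ≫ u ≫ eL.inv)
    refine ⟨DerivedCategory.Q.map (curry h), ?_⟩
    dsimp only
    rw [map_comp_evD, uncurry_curry, hh]
    simp


variable [HasRHom A]

/-- the comparison map `Q Hom(P, l) ⟶ RHom(Q P, L)` -/
noncomputable def cmp (P l : DRing.Cx A) (L : Dual.D A) (eL : DerivedCategory.Q.obj l ≅ L) :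
    DerivedCategory.Q.obj (DRing.homCx P l) ⟶ (RHomR A (DerivedCategory.Q.obj P)).obj L :=
  rhomHomEquiv _ _ _ (evD P l L eL)

theorem cmp_fac (P l : DRing.Cx A) (L : Dual.D A) (eL : DerivedCategory.Q.obj l ≅ L) :
    (LTen₂ A).map (Prod.mkHom (cmp P l L eL) (𝟙 (DerivedCategory.Q.obj P))) ≫
      DTen.ev (DerivedCategory.Q.obj P) L = evD P l L eL :=
  ((rhomAdj A (DerivedCategory.Q.obj P)).homEquiv _ _).left_inv _

theorem comp_cmp (P l : DRing.Cx A) (L : Dual.D A) (eL : DerivedCategory.Q.obj l ≅ L)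
    {W : Dual.D A} (f : W ⟶ DerivedCategory.Q.obj (DRing.homCx P l)) :
    f ≫ cmp P l L eL = rhomHomEquiv _ _ _
      ((LTen₂ A).map (Prod.mkHom f (𝟙 (DerivedCategory.Q.obj P))) ≫ evD P l L eL) :=
  ((rhomAdj A (DerivedCategory.Q.obj P)).homEquiv_naturality_left f (evD P l L eL)).symm

theorem isIso_cmp (P l : DRing.Cx A) (L : Dual.D A) (eL : DerivedCategory.Q.obj l ≅ L)
    [P.IsKProjective] (hP : DRing.IsKFlat A P) : IsIso (cmp P l L eL) := by
  refine isIso_of_yoneda_map_bijective _ (fun W => ?_)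
  let w₀ := DerivedCategory.Q.objPreimage W
  let e : DerivedCategory.Q.obj (res w₀) ≅ W :=
    asIso (DerivedCategory.Q.map (resMap w₀)) ≪≫ DerivedCategory.Q.objObjPreimageIso W
  have hb := bijective_evD (res w₀) P l L eL hP
  have h1 : Function.Bijective
      (fun f : DerivedCategory.Q.obj (res w₀) ⟶ _ => f ≫ cmp P l L eL) := by
    have : (fun f : DerivedCategory.Q.obj (res w₀) ⟶ _ => f ≫ cmp P l L eL) =
        (rhomHomEquiv _ _ _) ∘ (fun f => (LTen₂ A).map
          (Prod.mkHom f (𝟙 (DerivedCategory.Q.obj P))) ≫ evD P l L eL) := by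
      funext f
      exact comp_cmp P l L eL f
    rw [this]
    exact (Equiv.bijective _).comp hb
  constructor
  · intro f f' hff'
    dsimp only at hff'
    have := h1.1 (a₁ := e.hom ≫ f) (a₂ := e.hom ≫ f') (by
      dsimp only
      rw [Category.assoc, Category.assoc, hff'])
    exact (cancel_epi e.hom).1 this
  · intro u
    obtain ⟨f₀, hf₀⟩ := h1.2 (e.hom ≫ u)
    dsimp only at hf₀
    refine ⟨e.inv ≫ f₀, ?_⟩
    dsimp only
    rw [Category.assoc, hf₀, Iso.inv_hom_id_assoc]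


omit [HasRHom A] in
@[reassoc]
theorem LTen₂_map_comp'' {a a' a'' b b' b'' : Dual.D A} (f : a ⟶ a') (f' : a' ⟶ a'')
    (g : b ⟶ b') (g' : b' ⟶ b'') :
    (LTen₂ A).map (Prod.mkHom f g) ≫ (LTen₂ A).map (Prod.mkHom f' g') =
      (LTen₂ A).map (Prod.mkHom (f ≫ f') (g ≫ g')) := by
  rw [← Functor.map_comp]
  rfl

theorem hom_ext_RHom {W K L : Dual.D A} (a b : W ⟶ (RHomR A K).obj L)
    (h : (LTen₂ A).map (Prod.mkHom a (𝟙 K)) ≫ DTen.ev K L =
      (LTen₂ A).map (Prod.mkHom b (𝟙 K)) ≫ DTen.ev K L) : a = b := by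
  apply ((rhomAdj A K).homEquiv _ _).symm.injective
  rw [Adjunction.homEquiv_counit, Adjunction.homEquiv_counit]
  exact h

theorem cmp_naturality {P P' : DRing.Cx A} (φ : P ⟶ P') (l : DRing.Cx A) (L : Dual.D A)
    (eL : DerivedCategory.Q.obj l ≅ L) :
    DerivedCategory.Q.map (homCxPre φ l) ≫ cmp P l L eL =
      cmp P' l L eL ≫ RHomMap (DerivedCategory.Q.map φ) L := by
  apply hom_ext_RHom
  have e1 : (LTen₂ A).map (Prod.mkHom (DerivedCategory.Q.map (homCxPre φ l) ≫ cmp P l L eL)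
      (𝟙 (DerivedCategory.Q.obj P))) ≫ DTen.ev (DerivedCategory.Q.obj P) L =
      (ε A).app (DRing.homCx P' l, P) ≫
        DerivedCategory.Q.map (uncurry (homCxPre φ l)) ≫ eL.hom := by
    have : Prod.mkHom (DerivedCategory.Q.map (homCxPre φ l) ≫ cmp P l L eL)
        (𝟙 (DerivedCategory.Q.obj P)) =
        Prod.mkHom (DerivedCategory.Q.map (homCxPre φ l) ≫ cmp P l L eL)
          (𝟙 (DerivedCategory.Q.obj P) ≫ 𝟙 (DerivedCategory.Q.obj P)) := by
      rw [Category.comp_id]
    rw [this, ← LTen₂_map_comp'', Category.assoc, cmp_fac, map_comp_evD]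
  have e2 : (LTen₂ A).map (Prod.mkHom (cmp P' l L eL ≫ RHomMap (DerivedCategory.Q.map φ) L)
      (𝟙 (DerivedCategory.Q.obj P))) ≫ DTen.ev (DerivedCategory.Q.obj P) L =
      (ε A).app (DRing.homCx P' l, P) ≫
        DerivedCategory.Q.map ((DRing.homCx P' l ◁ φ) ≫ ev P' l) ≫ eL.hom := by
    have : Prod.mkHom (cmp P' l L eL ≫ RHomMap (DerivedCategory.Q.map φ) L)
        (𝟙 (DerivedCategory.Q.obj P)) =
        Prod.mkHom (cmp P' l L eL ≫ RHomMap (DerivedCategory.Q.map φ) L)
          (𝟙 (DerivedCategory.Q.obj P) ≫ 𝟙 (DerivedCategory.Q.obj P)) := by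
      rw [Category.comp_id]
    rw [this, ← LTen₂_map_comp'', Category.assoc, RHom_map_ev, LTen₂_map_comp''_assoc]
    have h2 : Prod.mkHom (cmp P' l L eL ≫ 𝟙 ((RHomR A (DerivedCategory.Q.obj P')).obj L))
        (𝟙 (DerivedCategory.Q.obj P) ≫ DerivedCategory.Q.map φ) =
        Prod.mkHom (𝟙 (DerivedCategory.Q.obj (DRing.homCx P' l)) ≫ cmp P' l L eL)
          (DerivedCategory.Q.map φ ≫ 𝟙 (DerivedCategory.Q.obj P')) := by
      rw [Category.comp_id, Category.id_comp, Category.comp_id, Category.id_comp]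
    rw [h2, ← LTen₂_map_comp'', Category.assoc, cmp_fac]
    dsimp only [evD]
    rw [← Category.assoc, ε_naturality_right, Category.assoc, Functor.map_comp, Category.assoc]
  rw [e1, e2, uncurry_eq, ev_dinat]

end Groth.Agent.Lib.Helper5.HomCx
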