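import Mathlib
import Groth.Agent.Lib.Helper5.DTenLib.TensorExact
import Groth.Agent.Lib.Helper5.KProj.Tri

set_option autoImplicit false
set_option linter.unusedSectionVars false
set_option linter.unusedVariables false
set_option linter.style.haveILetI false
universe u
open CategoryTheory CategoryTheory.Limits MonoidalCategory Pretriangulated
attribute [local instance] HasDerivedCategory.standard

namespace Groth.Agent.Lib.Helper5.HomCx

open DTen Groth.Agent.Lib.Helper5.DTenLib Groth.Agent.Lib.Helper5.KProj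
  Groth.Agent.Lib.Helper5.KFlat

variable {A : Type u} [CommRing A]

open CochainComplex in
/-- every distinguished triangle of `D(A)` is isomorphic to the mapping cone triangle of a map of
K-projective, K-flat complexes -/
theorem exists_iso_cone_kproj (T : Triangle (Dual.D A)) (hT : T ∈ distTriang (Dual.D A)) :
    ∃ (X Y : DRing.Cx A) (_ : X.IsKProjective) (_ : Y.IsKProjective) (_ : DRing.IsKFlat A X)
      (_ : DRing.IsKFlat A Y) (φ : X ⟶ Y),
      Nonempty (T ≅ DerivedCategory.Q.mapTriangle.obj (mappingCone.triangle φ)) := by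
  let X₀ := DerivedCategory.Q.objPreimage T.obj₁
  let Y₀ := DerivedCategory.Q.objPreimage T.obj₂
  let a : DerivedCategory.Q.obj (res X₀) ≅ T.obj₁ :=
    asIso (DerivedCategory.Q.map (resMap X₀)) ≪≫ DerivedCategory.Q.objObjPreimageIso T.obj₁
  let b : DerivedCategory.Q.obj (res Y₀) ≅ T.obj₂ :=
    asIso (DerivedCategory.Q.map (resMap Y₀)) ≪≫ DerivedCategory.Q.objObjPreimageIso T.obj₂
  obtain ⟨φ, hφ⟩ := exists_Q_map_eq (res X₀) (res Y₀) (a.hom ≫ T.mor₁ ≫ b.inv)
  have hTφ : DerivedCategory.Q.mapTriangle.obj (mappingCone.triangle φ) ∈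
      distTriang (Dual.D A) :=
    (DerivedCategory.mem_distTriang_iff _).2 ⟨_, _, φ, ⟨Iso.refl _⟩⟩
  refine ⟨res X₀, res Y₀, inferInstance, inferInstance, isKFlat_res X₀, isKFlat_res Y₀, φ,
    ⟨isoTriangleOfIso₁₂ T _ hT hTφ a.symm b.symm ?_⟩⟩
  change T.mor₁ ≫ b.inv = a.inv ≫ DerivedCategory.Q.map φ
  rw [hφ, Iso.inv_hom_id_assoc]

open CochainComplex in
/-- K-projective, K-flat version of `exists_cone_of_distTriang` -/
theorem exists_cone_kproj (T : Triangle (Dual.D A)) (hT : T ∈ distTriang (Dual.D A)) :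
    ∃ (X Y : DRing.Cx A) (_ : X.IsKProjective) (_ : Y.IsKProjective) (_ : DRing.IsKFlat A X)
      (_ : DRing.IsKFlat A Y) (φ : X ⟶ Y) (e₁ : T.obj₁ ≅ DerivedCategory.Q.obj Y)
      (e₂ : T.obj₂ ≅ DerivedCategory.Q.obj (mappingCone φ))
      (e₃ : T.obj₃ ≅ DerivedCategory.Q.obj (X⟦(1 : ℤ)⟧)),
      T.mor₁ ≫ e₂.hom = e₁.hom ≫ DerivedCategory.Q.map (mappingCone.inr φ) ∧
      T.mor₂ ≫ e₃.hom = e₂.hom ≫ DerivedCategory.Q.map (δc φ) := by
  obtain ⟨X, Y, hX, hY, fX, fY, φ, ⟨e'⟩⟩ :=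
    exists_iso_cone_kproj _ (inv_rot_of_distTriang _ hT)
  let ψ : T ≅ (DerivedCategory.Q.mapTriangle.obj (mappingCone.triangle φ)).rotate :=
    ((triangleRotation (Dual.D A)).counitIso.app T).symm ≪≫ (rotate _).mapIso e'
  refine ⟨X, Y, hX, hY, fX, fY, φ, Triangle.π₁.mapIso ψ, Triangle.π₂.mapIso ψ,
    Triangle.π₃.mapIso ψ ≪≫ ((DerivedCategory.Q.commShiftIso (1 : ℤ)).app X).symm, ?_, ?_⟩
  · exact ψ.hom.comm₁
  · have := ψ.hom.comm₂
    change T.mor₂ ≫ ψ.hom.hom₃ ≫ (DerivedCategory.Q.commShiftIso (1 : ℤ)).inv.app X =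
      ψ.hom.hom₂ ≫ DerivedCategory.Q.map (δc φ)
    rw [reassoc_of% this]
    have hm : (DerivedCategory.Q.mapTriangle.obj (mappingCone.triangle φ)).rotate.mor₂ =
        DerivedCategory.Q.map (δc φ) ≫
          (DerivedCategory.Q.commShiftIso (1 : ℤ)).hom.app X := rfl
    congr 1
    exact (Category.assoc _ _ _).trans
      ((congrArg (fun t => DerivedCategory.Q.map (δc φ) ≫ t)
        ((DerivedCategory.Q.commShiftIso (1 : ℤ)).hom_inv_id_app X)).trans (Category.comp_id _))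

end Groth.Agent.Lib.Helper5.HomCx
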