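import Mathlib
import Groth.Agent.Lib.Helper5.HomCx.Univ
import Groth.Agent.Lib.Helper5.HomCx.SplitSES
import Groth.Agent.Lib.Helper5.HomCx.ConeRep
import Groth.Agent.Lib.Helper5.DTenLib.EvalTenM

set_option autoImplicit false
set_option linter.unusedSectionVars false
set_option linter.unusedVariables false
set_option linter.style.haveILetI false
universe u
open CategoryTheory CategoryTheory.Limits MonoidalCategory Pretriangulated Opposite
attribute [local instance] HasDerivedCategory.standard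

namespace Groth.Agent.Lib.Helper5.HomCx

open DTen Groth.Agent.Lib.Helper5.DTenLib Groth.Agent.Lib.Helper5.KProj
  Groth.Agent.Lib.Helper5.KFlat Groth.Agent.Lib.Helper5.DTenThick

section CExactIso

variable {C : Type*} [Category C] [HasZeroObject C] [HasShift C ℤ] [Preadditive C]
  [∀ n : ℤ, (shiftFunctor C n).Additive] [Pretriangulated C]

theorem CExact.of_iso {X Y Z X' Y' Z' : C} {a : X ⟶ Y} {b : Y ⟶ Z} {a' : X' ⟶ Y'} {b' : Y' ⟶ Z'}
    (h : CExact a b) (e₁ : X' ≅ X) (e₂ : Y' ≅ Y) (e₃ : Z' ≅ Z)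
    (c₁ : a' ≫ e₂.hom = e₁.hom ≫ a) (c₂ : b' ≫ e₃.hom = e₂.hom ≫ b) : CExact a' b' := by
  constructor
  · rw [← cancel_mono e₃.hom, Category.assoc, c₂, reassoc_of% c₁, h.1, comp_zero, zero_comp]
  · intro W g hg
    obtain ⟨g', hg'⟩ := h.2 W (g ≫ e₂.hom) (by
      rw [Category.assoc, ← c₂, reassoc_of% hg, zero_comp])
    refine ⟨g' ≫ e₁.inv, ?_⟩
    rw [← cancel_mono e₂.hom, hg', Category.assoc, Category.assoc, c₁, Iso.inv_hom_id_assoc]

end CExactIso

variable {A : Type u} [CommRing A] [HasLTen A] [HasRHom A]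

theorem RHomMap_comp {K K' K'' : Dual.D A} (g' : K'' ⟶ K') (g : K' ⟶ K) (M : Dual.D A) :
    RHomMap (g' ≫ g) M = RHomMap g M ≫ RHomMap g' M := by
  dsimp only [RHomMap]
  rw [op_comp, Functor.map_comp, NatTrans.comp_app]
  rfl

/-- the isomorphism `RHom(K', M) ≅ RHom(K, M)` induced by `K ≅ K'` -/
noncomputable def rhomIsoOfIso {K K' : Dual.D A} (e : K ≅ K') (M : Dual.D A) :
    (RHomR A K').obj M ≅ (RHomR A K).obj M :=
  ((RHom A).mapIso e.op).app M

theorem rhomIsoOfIso_hom {K K' : Dual.D A} (e : K ≅ K') (M : Dual.D A) :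
    (rhomIsoOfIso e M).hom = RHomMap e.hom M := rfl

open CochainComplex in
/-- `RHom(-, L)` sends distinguished triangles to (the first two maps of) distinguished
triangles -/
theorem triOp_RHom (L : Dual.D A) (T : Triangle (Dual.D A)) (hT : T ∈ distTriang (Dual.D A)) :
    ∃ (Δ : Triangle (Dual.D A)) (_ : Δ ∈ distTriang (Dual.D A))
      (i₁ : (RHomR A T.obj₃).obj L ≅ Δ.obj₁) (i₂ : (RHomR A T.obj₂).obj L ≅ Δ.obj₂)
      (i₃ : (RHomR A T.obj₁).obj L ≅ Δ.obj₃),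
      RHomMap T.mor₂ L ≫ i₂.hom = i₁.hom ≫ Δ.mor₁ ∧
      RHomMap T.mor₁ L ≫ i₃.hom = i₂.hom ≫ Δ.mor₂ := by
  obtain ⟨X, Y, hX, hY, fX, fY, φ, e₁, e₂, e₃, c₁, c₂⟩ := exists_cone_kproj T hT
  let l := DerivedCategory.Q.objPreimage L
  let eL : DerivedCategory.Q.obj l ≅ L := DerivedCategory.Q.objObjPreimageIso L
  have hS := shortExact_homCx (mappingCone.triangleRotateShortComplex φ)
    (mappingCone.triangleRotateShortComplexSplitting φ) l
  haveI : (mappingCone φ).IsKProjective := isKProjective_mappingCone φ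
  have fC : DRing.IsKFlat A (mappingCone φ) := (isKFlat_cone_two_of_three φ).1 fX fY
  have fS : DRing.IsKFlat A (X⟦(1 : ℤ)⟧) := isKFlat_shift fX 1
  haveI := isIso_cmp (X⟦(1 : ℤ)⟧) l L eL fS
  haveI := isIso_cmp (mappingCone φ) l L eL fC
  haveI := isIso_cmp Y l L eL fY
  have n₁ : DerivedCategory.Q.map (homCxPre (δc φ) l) ≫ cmp (mappingCone φ) l L eL =
      cmp (X⟦(1 : ℤ)⟧) l L eL ≫ RHomMap (DerivedCategory.Q.map (δc φ)) L :=
    cmp_naturality (δc φ) l L eL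
  have n₂ : DerivedCategory.Q.map (homCxPre (mappingCone.inr φ) l) ≫ cmp Y l L eL =
      cmp (mappingCone φ) l L eL ≫ RHomMap (DerivedCategory.Q.map (mappingCone.inr φ)) L :=
    cmp_naturality (mappingCone.inr φ) l L eL
  refine ⟨DerivedCategory.triangleOfSES hS, DerivedCategory.triangleOfSES_distinguished hS,
    rhomIsoOfIso e₃.symm L ≪≫ (asIso (cmp (X⟦(1 : ℤ)⟧) l L eL)).symm,
    rhomIsoOfIso e₂.symm L ≪≫ (asIso (cmp (mappingCone φ) l L eL)).symm,
    rhomIsoOfIso e₁.symm L ≪≫ (asIso (cmp Y l L eL)).symm, ?_, ?_⟩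
  · change RHomMap T.mor₂ L ≫ RHomMap e₂.inv L ≫ inv (cmp (mappingCone φ) l L eL) =
      (RHomMap e₃.inv L ≫ inv (cmp (X⟦(1 : ℤ)⟧) l L eL)) ≫
        DerivedCategory.Q.map (homCxPre (δc φ) l)
    have h1 : e₂.inv ≫ T.mor₂ = DerivedCategory.Q.map (δc φ) ≫ e₃.inv := by
      rw [Iso.inv_comp_eq, ← Category.assoc, Iso.eq_comp_inv, c₂]
    rw [← Category.assoc, ← RHomMap_comp, h1, RHomMap_comp, Category.assoc, Category.assoc]
    congr 1
    rw [IsIso.comp_inv_eq, Category.assoc, n₁, IsIso.inv_hom_id_assoc]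
  · change RHomMap T.mor₁ L ≫ RHomMap e₁.inv L ≫ inv (cmp Y l L eL) =
      (RHomMap e₂.inv L ≫ inv (cmp (mappingCone φ) l L eL)) ≫
        DerivedCategory.Q.map (homCxPre (mappingCone.inr φ) l)
    have h1 : e₁.inv ≫ T.mor₁ = DerivedCategory.Q.map (mappingCone.inr φ) ≫ e₂.inv := by
      rw [Iso.inv_comp_eq, ← Category.assoc, Iso.eq_comp_inv, c₁]
    rw [← Category.assoc, ← RHomMap_comp, h1, RHomMap_comp, Category.assoc, Category.assoc]
    congr 1
    rw [IsIso.comp_inv_eq, Category.assoc, n₂, IsIso.inv_hom_id_assoc]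


variable [HasLTen₃ A] [IsSymMonoidal A]

/-- the functor `K ↦ RHom(RHom(K, L), M)` -/
noncomputable def RR (L M : Dual.D A) : Dual.D A ⥤ Dual.D A :=
  ((RHom A).flip.obj L).rightOp ⋙ (RHom A).flip.obj M

theorem RR_obj (L M K : Dual.D A) :
    (RR L M).obj K = (RHomR A ((RHomR A K).obj L)).obj M := rfl

theorem RR_map (L M : Dual.D A) {K K' : Dual.D A} (f : K ⟶ K') :
    (RR L M).map f = RHomMap (RHomMap f L) M := rfl

/-- `K ↦ RHom(RHom(K, L), M)` is coyoneda-exact on distinguished triangles -/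
theorem coyExact_RR (L M : Dual.D A) : CoyExact (RR L M) := by
  intro T hT
  obtain ⟨Δ, hΔ, i₁, i₂, i₃, c₁, c₂⟩ := triOp_RHom L T hT
  have hM : CExact (RHomMap Δ.mor₂ M) (RHomMap Δ.mor₁ M) := coyExactOp_RHom_flip M Δ hΔ
  have := CExact.of_iso (a' := RHomMap (RHomMap T.mor₁ L) M)
    (b' := RHomMap (RHomMap T.mor₂ L) M) hM (rhomIsoOfIso i₃.symm M)
    (rhomIsoOfIso i₂.symm M) (rhomIsoOfIso i₁.symm M) ?_ ?_
  · exact this
  · rw [rhomIsoOfIso_hom, rhomIsoOfIso_hom]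
    dsimp only [Iso.symm_hom]
    rw [← RHomMap_comp, ← RHomMap_comp]
    congr 1
    rw [Iso.inv_comp_eq, ← Category.assoc, Iso.eq_comp_inv, c₂]
  · rw [rhomIsoOfIso_hom, rhomIsoOfIso_hom]
    dsimp only [Iso.symm_hom]
    rw [← RHomMap_comp, ← RHomMap_comp]
    congr 1
    rw [Iso.inv_comp_eq, ← Category.assoc, Iso.eq_comp_inv, c₁]

end Groth.Agent.Lib.Helper5.HomCx
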